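import Cfsg.Agent.Mrg.Omega.NO3S.WY.Exact


/-!
# The weird parabolics of the case (L): the local module, both cases

* `Loc S P T Y R H U` : the local module `U` of `H ≤ C_G(R)`, without `DX`; `cUQ : C_U(Q) ≤ V_P`, `cUT : C_U(T) ≤ Ω₁(Z(T))`,
  `cT_le`, `not_cent`;
* `LMd.toLoc`; `best_of_AA` : Thompson;
* `exists_loc` : `T` a Sylow subgroup of `C_G(R)`, `T ≤ X ≤ N_G(Q) ∩ C_G(R)`, `Y` a minimal parabolic over `T` in `C_G(R)`
  which moves `Ω₁(Z(T))`, `Q ≰ O₂(Y)`: `U = ⟨Ω₁(Z(T))^H⟩`, `H = ⟨X, Y⟩`, is a local module, and some best offender `A ≤ T` on `U`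
  moves `U` (`J(S) ≤ O₂(Y)` : `LMd.exists_best`; otherwise a member of `𝒜(S)`).
-/

set_option autoImplicit false
set_option linter.unusedSectionVars false
set_option linter.dupNamespace false

namespace Cfsg.Agent.Omega.NO3S.WY

open Subgroup Cfsg Cfsg.Agent.ZN Cfsg.Agent.ZN.ChoiceBase Cfsg.Agent.Omega.MinPar Cfsg.Agent.Omega.Frame
open Cfsg.Agent.ZN.ChoiceSit (Syl)
open Cfsg.Agent.MinSimple.MinParabolic (IsMinPar)
open Cfsg.Agent.MinSimple.VModule (oddGen)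
open Cfsg.Agent.Omega.NO3S.Level
open Cfsg.Agent.Omega.NO3S.RedC
open Cfsg.Agent.Omega.NO1.BestOff (Best)
open Cfsg.Agent.Omega.FFThm (OffM ElemM)
open scoped Pointwise

universe u

variable {G : Type u} [Group G] [Finite G]

/-- **The local module**, without `DX`. -/
structure Loc (S : Sylow 2 G) (P T Y R H U : Subgroup G) : Prop where
  cl : CaseL S P
  TS : T ≤ (S : Subgroup G)
  QT : o2 P ≤ T
  syl : Syl T Y
  min : IsMinPar T Y
  c2 : Y ⊓ centralizer (o2 Y : Set G) ≤ o2 Y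
  nQ : ¬ o2 P ≤ o2 Y
  BT : BB (S : Subgroup G) P ≤ T
  RZ : R ≤ ZJ (S : Subgroup G) P
  TH : T ≤ H
  YH : Y ≤ H
  HC : H ≤ centralizer (R : Set G)
  UT : U ≤ T
  Us : ∀ u ∈ U, u ^ 2 = 1
  Uc : U ≤ centralizer (U : Set G)
  UO : U ≤ o2 (centralizer (R : Set G))
  Un : H ≤ normalizer (U : Set G)
  mv : ¬ oddGen Y ≤ centralizer (U : Set G)

namespace Loc

variable {S : Sylow 2 G} {P T Y R H U : Subgroup G} (m : Loc S P T Y R H U)
include m

/-- `C_U(Q) ≤ V_P` -/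
theorem cUQ : U ⊓ centralizer (o2 P : Set G) ≤ ZN.zl (S : Subgroup G) P := by
  rw [← m.cl.zc_eq]
  rintro v ⟨hv, hvc⟩
  have h1 : v ∈ P := m.cl.pss.par.le (m.TS (m.UT hv))
  have h2 : v ∈ o2 P := m.cl.pss.par.isLoc.char2 S m.cl.ctx.char2 ⟨h1, hvc⟩
  exact ChoiceBase.mem_zc.2 ⟨h2, m.Us v hv, fun q hq => mem_centralizer_iff.1 hvc q hq⟩

/-- `C_U(T) ≤ Ω₁(Z(T))` -/
theorem cUT : U ⊓ centralizer (T : Set G) ≤ zc T := by
  rintro v ⟨hv, hvc⟩
  exact ChoiceBase.mem_zc.2 ⟨m.UT hv, m.Us v hv, fun q hq => mem_centralizer_iff.1 hvc q hq⟩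

/-- `C_T(U₀) ≤ O₂(Y)` if `O²(Y)` moves the `Y`-invariant group `U₀` -/
theorem cT_le {U₀ : Subgroup G} (hn : Y ≤ normalizer (U₀ : Set G)) (hmv : ¬ oddGen Y ≤ centralizer (U₀ : Set G)) :
    T ⊓ centralizer (U₀ : Set G) ≤ o2 Y := by
  have hYY : Y ≤ normalizer ((Y ⊓ centralizer (U₀ : Set G) : Subgroup G) : Set G) :=
    NO3b.EZero.le_normalizer_inf_cent hn
  rcases NO3b.K0.min_or m.syl m.min (K := Y ⊓ centralizer (U₀ : Set G)) inf_le_left hYY with h2 | h2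
  · exact absurd (h2.trans inf_le_right) hmv
  · exact (le_inf inf_le_left (inf_le_inf_right _ m.syl.1)).trans h2

/-- A subgroup of `T` which is not in `O₂(Y)` moves `U`. -/
theorem not_cent {A : Subgroup G} (hA : A ≤ T) (hY : ¬ A ≤ o2 Y) : ¬ A ≤ centralizer (U : Set G) := fun hc =>
  hY ((le_inf hA hc).trans (m.cT_le (m.YH.trans m.Un) m.mv))

end Loc

/-- `LMd` gives `Loc`. -/
theorem LMd.toLoc {S : Sylow 2 G} {P T Y R H U : Subgroup G} (m : LMd S P T Y R H U) : Loc S P T Y R H U where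
  cl := m.wq.cl
  TS := m.wq.TS
  QT := m.wq.QT
  syl := m.wq.syl
  min := m.wq.min
  c2 := m.wq.c2
  nQ := m.wq.nQ
  BT := m.BT
  RZ := m.RZ
  TH := m.TH
  YH := m.YH
  HC := m.HC
  UT := m.UV.trans (m.wq.zl_GX_le.trans ((ZN.zc_le _).trans m.wq.DX_T))
  Us := fun u hu => m.wq.V_sq u (m.wq.zl_GX_le (m.UV hu))
  Uc := m.Uc
  UO := m.UO
  Un := m.Un
  mv := m.mv

/-- Thompson: a largest elementary abelian subgroup of `S` is a best offender on every elementary abelian `U ≤ S`. -/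
theorem best_of_AA {S U A : Subgroup G} (hU : IsElementaryAbelian 2 U) (hUS : U ≤ S) (hA : A ∈ AA S) : Best U A where
  sq := fun a ha => by rw [(PLocal.ThompsonJ.isElementaryAbelian_iff.1 hA.1).2 a ha]; exact one_mem _
  comm := fun a ha b hb => by
    have e := (PLocal.ThompsonJ.isElementaryAbelian_iff.1 hA.1).1 a ha b hb
    have e2 : a * b * a⁻¹ * b⁻¹ = 1 := by rw [e]; group
    rw [e2]; exact one_mem _
  max := fun F hF2 _ => by
    have hc : F ≤ centralizer ((U ⊓ centralizer (F : Set G) : Subgroup G) : Set G) := fun f hf =>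
      mem_centralizer_iff.2 fun v hv => (mem_centralizer_iff.1 hv.2 f hf).symm
    have hFe := PLocal.ThompsonJ.isElementaryAbelian_mono hA.1 hF2
    have hCe := PLocal.ThompsonJ.isElementaryAbelian_mono hU (inf_le_left (b := centralizer (F : Set G)))
    have h1 := Cfsg.Agent.PLocal.ElemAbSup.isElementaryAbelian_sup hCe hFe hc
    have h2 := hA.2.2 _ h1 (sup_le (inf_le_left.trans hUS) (hF2.trans hA.2.1))
    have h3 := Cfsg.Agent.PLocal.ElemAbSup.card_sup_mul_card_inf hc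
    have h4 : Nat.card ↥((U ⊓ centralizer (F : Set G)) ⊓ F) ≤ Nat.card ↥(U ⊓ centralizer (A : Set G)) := by
      refine Subgroup.card_le_of_le (le_inf (inf_le_left.trans inf_le_left) fun x hx =>
        mem_centralizer_iff.2 fun a ha => ?_)
      exact congrArg (fun t : A => (t : G)) (hA.1.1.is_comm.comm ⟨a, ha⟩ ⟨x, hF2 hx.2⟩)
    calc Nat.card F * Nat.card ↥(U ⊓ centralizer (F : Set G)) =
        Nat.card ↥(U ⊓ centralizer (F : Set G)) * Nat.card F := mul_comm _ _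
      _ = _ := h3.symm
      _ ≤ _ := Nat.mul_le_mul h2 h4

/-- **The local module with an offender, both cases.** `hN` : every `A ≤ S` which moves `V_P` has a conjugate under `S`
which moves `⟨Ω₁(Z(T))^X⟩`. -/
theorem exists_loc {S : Sylow 2 G} {P T Y R X : Subgroup G} (cl : CaseL S P) (TS : T ≤ (S : Subgroup G))
    (QT : o2 P ≤ T) (syl : Syl T Y) (min : IsMinPar T Y) (c2 : Y ⊓ centralizer (o2 Y : Set G) ≤ o2 Y)
    (mv : ¬ Y ≤ centralizer (zc T : Set G)) (nQ : ¬ o2 P ≤ o2 Y) (BT : BB (S : Subgroup G) P ≤ T)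
    (RZ : R ≤ ZJ (S : Subgroup G) P) (Rn : R ≠ ⊥) (hT : Syl T (centralizer (R : Set G)))
    (YR : Y ≤ centralizer (R : Set G)) (TX : T ≤ X) (XQ : X ≤ normalizer (o2 P : Set G))
    (XR : X ≤ centralizer (R : Set G))
    (hN : ∀ A : Subgroup G, A ≤ (S : Subgroup G) → ¬ A ≤ o2 P →
      ∃ s ∈ (S : Subgroup G), ¬ cj s A ≤ centralizer (ZN.zl T X : Set G)) :
    Loc S P T Y R (X ⊔ Y) (ZN.zl T (X ⊔ Y)) ∧
      ∃ A : Subgroup G, A ≤ T ∧ Best (ZN.zl T (X ⊔ Y)) A ∧ ¬ A ≤ centralizer (ZN.zl T (X ⊔ Y) : Set G) := by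
  by_cases hJ : jj (S : Subgroup G) ≤ o2 Y
  · have h := WY.of_mv cl TS QT syl min c2 mv nQ hJ
    have hX : X ≤ GX (S : Subgroup G) P Y := XQ.trans (h.NT_le (DX_le_P _ _ _) h.o2P_le)
    have m := LMd.zl h BT RZ Rn hT (TX.trans (le_sup_left : X ≤ X ⊔ Y)) le_sup_right (sup_le hX h.Y_le) (sup_le XR YR)
    refine ⟨m.toLoc, m.exists_best fun A hA hAP => ?_⟩
    obtain ⟨s, hs, hne⟩ := hN A hA hAP
    refine ⟨s, hs, fun hc => hne (hc.trans (centralizer_le ?_))⟩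
    exact ZN.zl_le (MinSimple.VModule.zc_le_zl _ _)
      ((le_sup_left : X ≤ X ⊔ Y).trans (ZN.le_normalizer_zl _ _))
  · have hR2 : IsPGroup 2 R := S.isPGroup'.to_le ((RZ.trans (ZN.zc_le _)).trans (nxt_le _ _))
    have hc := NOne.LemmaT.char2_of_normal (MinSimple.Basic.char2_normalizer cl.ctx.char2 hR2 Rn)
      (centralizer_le_normalizer _)
      (normalizer_le_of_cj (F := fun T => centralizer (T : Set G)) (fun g T => (cj_centralizer g T).symm) R)
    have HC : X ⊔ Y ≤ centralizer (R : Set G) := sup_le XR YR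
    have hUz : ZN.zl T (X ⊔ Y) ≤ zc (o2 (centralizer (R : Set G))) :=
      ZN.zl_le (LMd.zc_le_zc_o2 hT hc) ((HC.trans (ZN.le_normalizer_o2 _)).trans (normalizer_le_zc _))
    have hUO : ZN.zl T (X ⊔ Y) ≤ o2 (centralizer (R : Set G)) := hUz.trans (ZN.zc_le _)
    have hUT : ZN.zl T (X ⊔ Y) ≤ T := hUO.trans (ChoiceSit.o2_le_syl hT)
    have hUs : ∀ u ∈ ZN.zl T (X ⊔ Y), u ^ 2 = 1 := fun u hu => (ChoiceBase.mem_zc.1 (hUz hu)).2.1
    have hUc : ZN.zl T (X ⊔ Y) ≤ centralizer (ZN.zl T (X ⊔ Y) : Set G) := fun x hx =>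
      mem_centralizer_iff.2 fun y hy => Lev.zc_comm (hUz hy) (hUz hx)
    have m : Loc S P T Y R (X ⊔ Y) (ZN.zl T (X ⊔ Y)) :=
      { cl := cl, TS := TS, QT := QT, syl := syl, min := min, c2 := c2, nQ := nQ, BT := BT, RZ := RZ
        TH := TX.trans le_sup_left
        YH := le_sup_right
        HC := HC
        UT := hUT
        Us := hUs
        Uc := hUc
        UO := hUO
        Un := ZN.le_normalizer_zl _ _
        mv := fun hc => mv (by
          rw [← NO3b.EZero.oddGen_sup_syl syl]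
          exact sup_le (hc.trans (centralizer_le (MinSimple.VModule.zc_le_zl _ _))) (Level.le_centralizer_zc _)) }
    refine ⟨m, ?_⟩
    obtain ⟨A, hA, hAY⟩ : ∃ A ∈ AA (S : Subgroup G), ¬ A ≤ o2 Y := by
      by_contra hcon
      push Not at hcon
      exact hJ (by rw [ChoiceBase.jj_eq]; exact sSup_le hcon)
    have hAT : A ≤ T := (ChoiceBase.le_jj hA).trans ((cl.hj P cl.pss.par).trans QT)
    exact ⟨A, hAT, best_of_AA (PLocal.ThompsonJ.isElementaryAbelian_iff.2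
      ⟨fun x hx y hy => mem_centralizer_iff.1 (hUc hy) x hx, hUs⟩) (hUT.trans TS) hA, m.not_cent hAT hAY⟩

end Cfsg.Agent.Omega.NO3S.WY
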