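import Cfsg.Agent.Mrg.Omega.NO3S.RedC.Frame
import Cfsg.Agent.Mrg.Omega.NO3b.CTwoFF.End
import Cfsg.Agent.Mrg.Omega.NO3S.RedC.Single
import Cfsg.Agent.Mrg.Omega.NO3S.RedC.Nff

section


/-!
# The weird parabolics of the case (L): the frame

`CaseL S P`, `Q = O₂(P)`, `L = V_P = Ω₁(Z(Q))`.  `WQ S P T Y` : `Q ≤ T ≤ S`, `T` a Sylow 2-subgroup of the minimal
parabolic `Y`, `O²(Y)` moves `V_P`, `Q ≰ O₂(Y)`, `J(S) ≤ O₂(Y)` (the quiet ones included); `WY S P T Y` : moreover `Y`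
moves `Ω₁(Z(T))`; `WY.of_mv`.

`DX S P Y` (`RedC/Frame.lean`): the largest weakly closed subgroup of `S` in `Q ∩ O₂(Y)`; `GX S P Y = N_G(DX)`.

* `lev` : `DX` is a level; `P_le`, `Y_le`, `par_le`, `NT_le` : `P`, `Y`, `P*(S)`, `N_G(R)` (`DX ≤ R ≤ S`) lie in `GX`;
* `zcT_le`, `zcT_eq` : `Ω₁(Z(T)) = C_V(T) ≤ V_P`; `cvQ` : `C_V(Q) = V_P`;
* `cs` : `C_S(V) = DX` for `V_P ≤ V ≤ Ω₁(Z(DX))`, `V` normal in `GX`;
* `prin` : **(P_Y)**;
* `not_nfRoot` : `GX` is no root (`CTwoFF.false_of_nfRoot`);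
* `eq_of_zc` : `Y` moves `V_P`.
-/

set_option autoImplicit false
set_option linter.unusedSectionVars false
set_option linter.dupNamespace false

namespace Cfsg.Agent.Omega.NO3S.WY

open Subgroup Cfsg Cfsg.Agent.ZN Cfsg.Agent.ZN.ChoiceBase Cfsg.Agent.Omega.MinPar Cfsg.Agent.Omega.Frame
open Cfsg.Agent.ZN.ChoiceSit (Syl)
open Cfsg.Agent.MinSimple.MinParabolic (IsMinPar)
open Cfsg.Agent.Omega.FrameNOFF (CZ)
open Cfsg.Agent.Omega.NO3b.Wc (WC cj_sSup)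
open Cfsg.Agent.Omega.NO3b.EZero (cl cl_le le_cl oddGen_sup_syl)
open Cfsg.Agent.MinSimple.VModule (oddGen zc_le_zl)
open Cfsg.Agent.Omega.NO3S.Level
open Cfsg.Agent.Omega.NO3S.RedC
open Cfsg.Agent.Omega.NOThreeL.MergeNF (NFRoot)

universe u

variable {G : Type u} [Group G] [Finite G]

/-- **The situation**, general form (`Y` may centralise `Ω₁(Z(T))`): `O²(Y)` moves `V_P`. -/
structure WQ (S : Sylow 2 G) (P T Y : Subgroup G) : Prop where
  cl : CaseL S P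
  TS : T ≤ (S : Subgroup G)
  QT : o2 P ≤ T
  syl : Syl T Y
  min : IsMinPar T Y
  c2 : Y ⊓ centralizer (o2 Y : Set G) ≤ o2 Y
  mvL : ¬ oddGen Y ≤ centralizer (zl (S : Subgroup G) P : Set G)
  nQ : ¬ o2 P ≤ o2 Y
  jY : jj (S : Subgroup G) ≤ o2 Y

/-- **The situation**: `Y` moves `Ω₁(Z(T))`. -/
structure WY (S : Sylow 2 G) (P T Y : Subgroup G) : Prop extends WQ S P T Y where
  mv : ¬ Y ≤ centralizer (zc T : Set G)

namespace WQ

variable {S : Sylow 2 G} {P T Y : Subgroup G} (h : WQ S P T Y)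
include h

theorem hG : IsCharacteristicTwoType G := h.cl.ctx.char2

theorem hyp : Hyp S P := h.cl.hypN.toHyp

theorem parP : IsParS (S : Subgroup G) P := h.cl.pss.par

theorem T_Y : T ≤ Y := h.syl.1

theorem T2 : IsPGroup 2 T := h.syl.2.1

theorem o2Y_T : o2 Y ≤ T := ChoiceSit.o2_le_syl h.syl

theorem o2Y_le : o2 Y ≤ (S : Subgroup G) := h.o2Y_T.trans h.TS

theorem o2P_le : o2 P ≤ (S : Subgroup G) := h.parP.isLoc.o2_le S

theorem jP : jj (S : Subgroup G) ≤ o2 P := h.cl.hj P h.parP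

theorem jD : jj (S : Subgroup G) ≤ DX (S : Subgroup G) P Y := le_DX (wc_jj S) h.jP h.jY

/-- `DX` is a level. -/
theorem lev : Lev (S : Subgroup G) (DX (S : Subgroup G) P Y) where
  le := DX_le _ _ _
  jjle := h.jD
  norm := fun _ h1 h2 => norm_le_GX h1 h2

theorem P_le : P ≤ GX (S : Subgroup G) P Y := h.lev.le_norm_of_o2 (DX_le_P _ _ _) h.o2P_le

theorem Y_le : Y ≤ GX (S : Subgroup G) P Y := h.lev.le_norm_of_o2 (DX_le_X _ _ _) h.o2Y_le

theorem S_le : (S : Subgroup G) ≤ GX (S : Subgroup G) P Y := S_le_GX _ _ _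

theorem par_le {R : Subgroup G} (hR : IsParS (S : Subgroup G) R) : R ≤ GX (S : Subgroup G) P Y :=
  h.lev.le_norm_of_o2 ((DX_le_P _ _ _).trans (h.cl.o2_le hR)) (hR.isLoc.o2_le S)

theorem NT_le {R : Subgroup G} (h1 : DX (S : Subgroup G) P Y ≤ R) (h2 : R ≤ (S : Subgroup G)) :
    normalizer (R : Set G) ≤ GX (S : Subgroup G) P Y := norm_le_GX h1 h2

theorem NS_le : normalizer ((S : Subgroup G) : Set G) ≤ GX (S : Subgroup G) P Y := norm_le_GX (DX_le _ _ _) le_rfl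

theorem DX_T : DX (S : Subgroup G) P Y ≤ T := (DX_le_X _ _ _).trans h.o2Y_T

/-- `V_P ≤ Ω₁(Z(DX))` -/
theorem L_le : zl (S : Subgroup G) P ≤ zc (DX (S : Subgroup G) P Y) := by
  rw [← h.cl.zc_eq]
  exact h.lev.zc_o2_le (DX_le_P _ _ _) h.o2P_le

theorem Z_le : zc (S : Subgroup G) ≤ zc (DX (S : Subgroup G) P Y) := h.lev.zc_le

theorem D_cent : DX (S : Subgroup G) P Y ≤ centralizer (zc (DX (S : Subgroup G) P Y) : Set G) :=
  Level.le_centralizer_zc _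

theorem V_le_D : zc (DX (S : Subgroup G) P Y) ≤ DX (S : Subgroup G) P Y := ZN.zc_le _

theorem V_le_S : zc (DX (S : Subgroup G) P Y) ≤ (S : Subgroup G) := (ZN.zc_le _).trans (DX_le _ _ _)

theorem V_sq : ∀ v ∈ zc (DX (S : Subgroup G) P Y), v ^ 2 = 1 := fun _ hv => (ChoiceBase.mem_zc.1 hv).2.1

theorem V_comm : zc (DX (S : Subgroup G) P Y) ≤ centralizer (zc (DX (S : Subgroup G) P Y) : Set G) := fun _ hx =>
  mem_centralizer_iff.2 fun _ hy => Lev.zc_comm hy hx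

/-- `C_V(Q) = V_P` -/
theorem cvQ : zc (DX (S : Subgroup G) P Y) ⊓ centralizer (o2 P : Set G) = zl (S : Subgroup G) P := by
  refine le_antisymm ?_ (le_inf h.L_le ?_)
  · rw [← h.cl.zc_eq]
    rintro v ⟨hv, hvQ⟩
    exact ChoiceBase.mem_zc.2 ⟨DX_le_P _ _ _ (ZN.zc_le _ hv), h.V_sq v hv, fun q hq => mem_centralizer_iff.1 hvQ q hq⟩
  · rw [← h.cl.zc_eq, le_centralizer_iff]
    exact Level.le_centralizer_zc _

/-- `Ω₁(Z(T)) ≤ V_P` -/
theorem zcT_le : zc T ≤ zl (S : Subgroup G) P := by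
  rw [← h.cl.zc_eq]
  intro v hv
  obtain ⟨hvT, hv2, hvc⟩ := ChoiceBase.mem_zc.1 hv
  have h1 : v ∈ P := h.parP.le (h.TS hvT)
  have h2 : v ∈ o2 P := h.parP.isLoc.char2 S h.hG
    ⟨h1, mem_centralizer_iff.2 fun q hq => hvc q (h.QT hq)⟩
  exact ChoiceBase.mem_zc.2 ⟨h2, hv2, fun q hq => hvc q (h.QT hq)⟩

theorem zcT_le_V : zc T ≤ zc (DX (S : Subgroup G) P Y) := h.zcT_le.trans h.L_le

/-- `C_V(T) = Ω₁(Z(T))` -/
theorem zcT_eq : zc (DX (S : Subgroup G) P Y) ⊓ centralizer (T : Set G) = zc T := by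
  refine le_antisymm ?_ (le_inf h.zcT_le_V ?_)
  · rintro v ⟨hv, hvT⟩
    exact ChoiceBase.mem_zc.2 ⟨h.DX_T (ZN.zc_le _ hv), h.V_sq v hv, fun q hq => mem_centralizer_iff.1 hvT q hq⟩
  · rw [le_centralizer_iff]
    exact Level.le_centralizer_zc _

/-- `Y` moves `V_P`. -/
theorem not_norm_L : ¬ Y ≤ normalizer (zl (S : Subgroup G) P : Set G) := by
  intro hYL
  have hYY : Y ≤ normalizer ((Y ⊓ centralizer (zl (S : Subgroup G) P : Set G) : Subgroup G) : Set G) :=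
    NO3b.EZero.le_normalizer_inf_cent hYL
  rcases NO3b.K0.min_or h.syl h.min (K := Y ⊓ centralizer (zl (S : Subgroup G) P : Set G)) inf_le_left hYY with h2 | h2
  · exact h.mvL (h2.trans inf_le_right)
  · apply h.nQ
    have h3 : o2 P ≤ centralizer (zl (S : Subgroup G) P : Set G) := by
      rw [← h.cl.zc_eq]; exact Level.le_centralizer_zc _
    exact (le_inf h.QT (le_inf (h.QT.trans h.T_Y) h3)).trans h2

/-- `C_S(V) ≤ O₂(Y)` for `V_P ≤ V`, `V` normal in `Y` -/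
theorem cs_le_Y {V : Subgroup G} (hV : Y ≤ normalizer (V : Set G)) (h1 : zl (S : Subgroup G) P ≤ V) :
    (S : Subgroup G) ⊓ centralizer (V : Set G) ≤ o2 Y := by
  have hT : (S : Subgroup G) ⊓ centralizer (V : Set G) ≤ T := by
    refine le_trans ?_ h.QT
    rw [← IsParS.inf_centralizer S h.hG h.parP]
    exact inf_le_inf_left _ (centralizer_le h1)
  have hYY : Y ≤ normalizer ((Y ⊓ centralizer (V : Set G) : Subgroup G) : Set G) :=
    NO3b.EZero.le_normalizer_inf_cent hV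
  rcases NO3b.K0.min_or h.syl h.min (K := Y ⊓ centralizer (V : Set G)) inf_le_left hYY with h2 | h2
  · exact absurd ((h2.trans inf_le_right).trans (centralizer_le h1)) h.mvL
  · exact (le_inf hT (le_inf (hT.trans h.T_Y) inf_le_right)).trans h2

/-- `C_S(V) = DX` for `V_P ≤ V ≤ Ω₁(Z(DX))`, `V` normal in `GX`. -/
theorem cs {V : Subgroup G} (h1 : zl (S : Subgroup G) P ≤ V) (h2 : V ≤ zc (DX (S : Subgroup G) P Y))
    (h3 : GX (S : Subgroup G) P Y ≤ normalizer (V : Set G)) :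
    (S : Subgroup G) ⊓ centralizer (V : Set G) = DX (S : Subgroup G) P Y := by
  have hK : DX (S : Subgroup G) P Y ≤ (S : Subgroup G) ⊓ centralizer (V : Set G) :=
    le_inf (DX_le _ _ _) (h.D_cent.trans (centralizer_le h2))
  refine le_antisymm (le_DX ⟨inf_le_left, fun g hg => ?_⟩ ?_ ?_) hK
  · have h4 : g ∈ GX (S : Subgroup G) P Y := mem_GX ((cj_mono g hK).trans hg)
    have h5 : cj g V = V := cj_eq_of_mem_normalizer (h3 h4)
    have h6 : cj g ((S : Subgroup G) ⊓ centralizer (V : Set G)) ≤ (S : Subgroup G) ⊓ centralizer (V : Set G) := by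
      refine le_inf hg ?_
      rw [cj_inf, cj_centralizer, h5]
      exact inf_le_right
    exact Subgroup.eq_of_le_of_card_ge h6 (card_cj _ _).ge
  · rw [← IsParS.inf_centralizer S h.hG h.parP]
    exact inf_le_inf_left _ (centralizer_le h1)
  · exact h.cs_le_Y (h.Y_le.trans h3) h1

/-- `⟨Z^GX⟩ ≤ Ω₁(Z(DX))`, `V_P ≤ ⟨Z^GX⟩` -/
theorem zl_GX_le : zl (S : Subgroup G) (GX (S : Subgroup G) P Y) ≤ zc (DX (S : Subgroup G) P Y) :=
  ZN.zl_le h.Z_le (GX_norm _ _ _)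

theorem L_le_zl : zl (S : Subgroup G) P ≤ zl (S : Subgroup G) (GX (S : Subgroup G) P Y) :=
  ZN.zl_le ZN.zc_le_zl (h.P_le.trans (ZN.le_normalizer_zl _ _))

theorem cs_zl : (S : Subgroup G) ⊓ centralizer (zl (S : Subgroup G) (GX (S : Subgroup G) P Y) : Set G) =
    DX (S : Subgroup G) P Y := h.cs h.L_le_zl h.zl_GX_le (ZN.le_normalizer_zl _ _)

theorem cs_V : (S : Subgroup G) ⊓ centralizer (zc (DX (S : Subgroup G) P Y) : Set G) = DX (S : Subgroup G) P Y :=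
  h.cs h.L_le le_rfl (GX_norm _ _ _)

/-- **(P_Y)** for 2-subgroups of `GX` which move `V`: a closed family has a member in `S` which is not in `O₂(P)`, or
all members in `S` lie in `O₂(P)`, and one of them is not in `O₂(Y)`. -/
theorem prin {V : Subgroup G} (h2 : V ≤ zc (DX (S : Subgroup G) P Y)) {B : Subgroup G}
    (hB : B ≤ GX (S : Subgroup G) P Y) (hB2 : IsPGroup 2 B) (hne : ¬ B ≤ centralizer (V : Set G))
    {𝓕 : Set (Subgroup G)} (h𝓕 : ∀ A ∈ 𝓕, ∀ n ∈ GX (S : Subgroup G) P Y, cj n A ∈ 𝓕) (hB𝓕 : B ∈ 𝓕) :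
    (∃ A ∈ 𝓕, A ≤ (S : Subgroup G) ∧ ¬ A ≤ o2 P) ∨
      ((∀ A ∈ 𝓕, A ≤ (S : Subgroup G) → A ≤ o2 P) ∧ ∃ A ∈ 𝓕, A ≤ o2 P ∧ ¬ A ≤ o2 Y) := by
  obtain ⟨n, hn, hnS⟩ := FFThm.exists_conj_le S h.S_le hB2 hB
  by_cases hP : ∃ A ∈ 𝓕, A ≤ (S : Subgroup G) ∧ ¬ A ≤ o2 P
  · exact Or.inl hP
  · right
    push Not at hP
    have hnD : ¬ cj n B ≤ DX (S : Subgroup G) P Y := fun h1 => by
      have h3 := cj_mono n⁻¹ h1
      have hn' : n⁻¹ ∈ GX (S : Subgroup G) P Y := inv_mem hn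
      have h4 : cj n⁻¹ (DX (S : Subgroup G) P Y) = DX (S : Subgroup G) P Y := cj_eq_of_mem_normalizer hn'
      rw [cj_inv_cj, h4] at h3
      exact hne (h3.trans (h.D_cent.trans (centralizer_le h2)))
    obtain ⟨A, hA, hAS, hor⟩ := principle (S := (S : Subgroup G)) (P := P) (X := Y) (F := 𝓕) h𝓕
      (A := cj n B) (h𝓕 B hB𝓕 n hn) hnS hnD
    exact ⟨hP, A, hA, hP A hA hAS, hor.resolve_left (not_not.2 (hP A hA hAS))⟩

theorem zc_ne : zc (S : Subgroup G) ≠ ⊥ := MinSimple.Basic.zc_ne_bot S.isPGroup' (h.cl.ctx.sylow_ne_bot S)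

theorem DX_ne : DX (S : Subgroup G) P Y ≠ ⊥ := by
  intro h1
  apply h.zc_ne
  have h2 : zc (S : Subgroup G) ≤ DX (S : Subgroup G) P Y := h.Z_le.trans (ZN.zc_le _)
  rw [h1] at h2
  exact le_bot_iff.1 h2

theorem DX_le_o2 : DX (S : Subgroup G) P Y ≤ o2 (GX (S : Subgroup G) P Y) :=
  MinSimple.VModule.le_o2 le_normalizer (S.isPGroup'.to_le (DX_le _ _ _)) le_rfl

theorem isLoc_GX : IsLoc (S : Subgroup G) (GX (S : Subgroup G) P Y) := by
  refine ⟨S_le_GX _ _ _, fun h1 => h.DX_ne ?_⟩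
  have h2 := h.DX_le_o2
  rw [h1] at h2
  exact le_bot_iff.1 h2

/-- **`GX` is no root.** -/
theorem not_nfRoot : ¬ NFRoot (S : Subgroup G) (GX (S : Subgroup G) P Y) := fun hr =>
  NO3b.CTwoFF.false_of_nfRoot h.hG h.zc_ne hr h.cl.pss.par h.cl.pss.nonLoc h.P_le
    (fun P' hP' => h.cl.par_le hP') (h.cl.ff P h.cl.pss)

/-- If `⟨Z^GX⟩` is not FF, it is not in `O₂(C_G(Z))`. -/
theorem not_low (hn : NO3b.EZero.NotFF (zl (S : Subgroup G) (GX (S : Subgroup G) P Y))) :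
    ¬ zl (S : Subgroup G) (GX (S : Subgroup G) P Y) ≤ o2 (CZ (S : Subgroup G)) := fun hlow =>
  h.not_nfRoot
    { loc := h.isLoc_GX
      cs := by
        rw [h.cs_zl]
        exact h.DX_le_o2
      low := hlow
      nff := hn
      nonloc := fun U hU h1 h2 => h.cl.pss.nonLoc U hU (h.P_le.trans h1) h2 }

end WQ

/-- `zc T ≤ V_P` for `O₂(P) ≤ T ≤ S` in the case (L) -/
theorem zcT_le_of {S : Sylow 2 G} {P T : Subgroup G} (cl : CaseL S P) (TS : T ≤ (S : Subgroup G)) (QT : o2 P ≤ T) :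
    zc T ≤ zl (S : Subgroup G) P := by
  rw [← cl.zc_eq]
  intro v hv
  obtain ⟨hvT, hv2, hvc⟩ := ChoiceBase.mem_zc.1 hv
  have h1 : v ∈ P := cl.pss.par.le (TS hvT)
  have h2 : v ∈ o2 P := cl.pss.par.isLoc.char2 S cl.ctx.char2
    ⟨h1, mem_centralizer_iff.2 fun q hq => hvc q (QT hq)⟩
  exact ChoiceBase.mem_zc.2 ⟨h2, hv2, fun q hq => hvc q (QT hq)⟩

/-- The situation, from `[Ω₁(Z(T)), Y] ≠ 1`. -/
theorem WY.of_mv {S : Sylow 2 G} {P T Y : Subgroup G} (cl : CaseL S P) (TS : T ≤ (S : Subgroup G)) (QT : o2 P ≤ T)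
    (syl : Syl T Y) (min : IsMinPar T Y) (c2 : Y ⊓ centralizer (o2 Y : Set G) ≤ o2 Y)
    (mv : ¬ Y ≤ centralizer (zc T : Set G)) (nQ : ¬ o2 P ≤ o2 Y) (jY : jj (S : Subgroup G) ≤ o2 Y) :
    WY S P T Y where
  cl := cl
  TS := TS
  QT := QT
  syl := syl
  min := min
  c2 := c2
  mvL := fun hc => mv (by
    rw [← oddGen_sup_syl syl]
    exact sup_le (hc.trans (centralizer_le (zcT_le_of cl TS QT))) (Level.le_centralizer_zc _))
  nQ := nQ
  jY := jY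
  mv := mv

end Cfsg.Agent.Omega.NO3S.WY

end

section


/-!
# The weird parabolics of the case (L): the cut

`WQ S P T Y` (so `WY S P T Y`); `V` with `⟨Z^GX⟩ ≤ V ≤ Ω₁(Z(DX))`, normal in `GX`.

* `offP` : if `V` has an offender, the class of the maximal offenders of least rank (`RedC.MaxMin V GX`) is
  **passive**: all members in `S` lie in `O₂(P)`, and one of them is not in `O₂(Y)` (`PasM`);
* `bad_Z` : if `⟨Z^GX⟩` is not FF, `Z` is a bad subgroup of `V`; `exists_hyp` : maximal bad subgroups;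
* `exists_W` : some `W_F ≤ S` is not in `O₂(P)`, or all `W_F ≤ S` lie in `O₂(P)` and one of them is not in `O₂(Y)`;
* `cut` : **the three cases** for `V = ⟨Z^GX⟩`;
* `MaxMin`: `best`, `off`, `quad` (`RedC/MaxMin.lean`).
-/

set_option autoImplicit false
set_option linter.unusedSectionVars false
set_option linter.dupNamespace false

namespace Cfsg.Agent.Omega.NO3S.WY

open Subgroup Cfsg Cfsg.Agent.ZN Cfsg.Agent.ZN.ChoiceBase Cfsg.Agent.Omega.MinPar Cfsg.Agent.Omega.Frame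
open Cfsg.Agent.Omega.FrameNOFF (CZ)
open Cfsg.Agent.Omega.NO3b.EZero (cl cl_le)
open Cfsg.Agent.Omega.NO3b.Wc (WC)
open Cfsg.Agent.Omega.NO3S.Level
open Cfsg.Agent.Omega.NO3S.RedC
open Cfsg.Agent.Omega.FFThm (OffM ElemM)
open scoped Pointwise

universe u

variable {G : Type u} [Group G] [Finite G]

/-- The module: `⟨Z^GX⟩ ≤ V ≤ Ω₁(Z(DX))`, normal in `GX`. -/
structure Md (S : Sylow 2 G) (P Y V : Subgroup G) : Prop where
  ge : zl (S : Subgroup G) (GX (S : Subgroup G) P Y) ≤ V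
  le : V ≤ zc (DX (S : Subgroup G) P Y)
  norm : GX (S : Subgroup G) P Y ≤ normalizer (V : Set G)

/-- **the passive offenders** : all members of the class of the maximal offenders of least rank which lie in `S` lie in
`O₂(P)`, and one of them is not in `O₂(Y)`. -/
structure PasM (S : Sylow 2 G) (P Y V : Subgroup G) : Prop where
  pas : ∀ A, MaxMin V (GX (S : Subgroup G) P Y) A → A ≤ (S : Subgroup G) → A ≤ o2 P
  act : ∃ A, MaxMin V (GX (S : Subgroup G) P Y) A ∧ A ≤ o2 P ∧ ¬ A ≤ o2 Y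

/-- **the W-stage**, active: `W_F ≤ S`, `W_F ≰ O₂(P)`. -/
structure ActW (S : Sylow 2 G) (P V F : Subgroup G) : Prop where
  hyp : NOne.Flat.Hyp V F
  WS : NOne.Flat.WW V F ≤ (S : Subgroup G)
  mv : ¬ NOne.Flat.WW V F ≤ o2 P

/-- **the W-stage**, passive: all `W_F ≤ S` lie in `O₂(P)`; `W_F ≤ O₂(P)`, `W_F ≰ O₂(Y)`. -/
structure PasW (S : Sylow 2 G) (P Y V F : Subgroup G) : Prop where
  hyp : NOne.Flat.Hyp V F
  WQ : NOne.Flat.WW V F ≤ o2 P
  mv : ¬ NOne.Flat.WW V F ≤ o2 Y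
  pas : ∀ F₁, NOne.Flat.Hyp V F₁ → NOne.Flat.WW V F₁ ≤ (S : Subgroup G) → NOne.Flat.WW V F₁ ≤ o2 P

namespace WQ

variable {S : Sylow 2 G} {P T Y V : Subgroup G} (h : WQ S P T Y)
include h

theorem md_zl : Md S P Y (zl (S : Subgroup G) (GX (S : Subgroup G) P Y)) :=
  ⟨le_rfl, h.zl_GX_le, ZN.le_normalizer_zl _ _⟩

theorem md_zc : Md S P Y (zc (DX (S : Subgroup G) P Y)) := ⟨h.zl_GX_le, le_rfl, GX_norm _ _ _⟩

theorem csV (hV : Md S P Y V) : (S : Subgroup G) ⊓ centralizer (V : Set G) = DX (S : Subgroup G) P Y :=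
  h.cs (h.L_le_zl.trans hV.ge) hV.le hV.norm

theorem V_ne_L (hV : Md S P Y V) : V ≠ zl (S : Subgroup G) P := by
  rintro rfl
  exact h.not_norm_L (h.Y_le.trans hV.norm)

/-- **the offenders are passive** -/
theorem offP (hV : Md S P Y V) (hoff : ∃ A ≤ GX (S : Subgroup G) P Y, OffM V A) : PasM S P Y V := by
  have hFF := FF.Glob.ffthmM.{u}
  have hWc : V ≤ centralizer (V : Set G) := hV.le.trans (h.V_comm.trans (centralizer_le hV.le))
  have hWs : ∀ x ∈ V, x ^ 2 = 1 := fun x hx => h.V_sq x (hV.le hx)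
  have hWS : V ≤ (S : Subgroup G) := hV.le.trans h.V_le_S
  have hL : zl (S : Subgroup G) P ≤ V := h.L_le_zl.trans hV.ge
  obtain ⟨B, m⟩ := exists_maxMin hV.norm hoff
  rcases h.prin hV.le m.le m.pg m.ne (𝓕 := {A | MaxMin V (GX (S : Subgroup G) P Y) A})
      (fun A hA n hn => MaxMin.cj hA hn hV.norm) m with ⟨A, mA, hAS, hP⟩ | ⟨h1, A, mA, hAP, hAY⟩
  · exfalso
    have mA' : MaxMin V (GX (S : Subgroup G) P Y) A := mA
    have hne : ¬ A ≤ centralizer (zl (S : Subgroup G) P : Set G) := fun hc => hP (by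
      rw [← h.parP.inf_centralizer S h.hG]
      exact le_inf hAS hc)
    have hE : ElemM (zl (S : Subgroup G) P) A :=
      ⟨fun a ha => centralizer_le hL (mA'.elem.sq a ha), fun a ha b hb => centralizer_le hL (mA'.elem.comm a ha b hb)⟩
    obtain ⟨no, mo⟩ := mA'.minOff hV.norm hL (noOver_line hFF h.hG h.parP (hAS.trans h.parP.le) hE hne) hne
    exact h.V_ne_L hV (eq_of_min hFF h.hG h.parP h.P_le h.hyp.cv hWc hWs hV.norm hL hWS no mo hAS hne)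
  · exact ⟨fun A hA hAS => h1 A hA hAS, A, mA, hAP, hAY⟩

/-- No offenders: `NotFF`. -/
theorem nff_of (hV : Md S P Y V) (hoff : ¬ ∃ A ≤ GX (S : Subgroup G) P Y, OffM V A) : NO3b.EZero.NotFF V := by
  push Not at hoff
  exact nff_of_noOff h.S_le hV.norm hoff

/-- If `⟨Z^GX⟩` is not FF, `Z` is bad in `V`. -/
theorem bad_Z (hV : Md S P Y V) (hn : NO3b.EZero.NotFF (zl (S : Subgroup G) (GX (S : Subgroup G) P Y))) :
    NOne.Flat.Bad V (zc (S : Subgroup G)) :=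
  ⟨h.zc_ne, (MinSimple.VModule.zc_le_zl _ _).trans hV.ge, fun h1 => h.not_low hn (hV.ge.trans h1)⟩

theorem exists_hyp (hV : Md S P Y V) (hn : NO3b.EZero.NotFF V) {F₀ : Subgroup G} (h0 : NOne.Flat.Bad V F₀) :
    ∃ F₁, F₀ ≤ F₁ ∧ NOne.Flat.Hyp V F₁ := by
  refine NOne.Flat.exists_hyp (hV.le.trans (h.V_comm.trans (centralizer_le hV.le))) (fun x hx => h.V_sq x (hV.le hx))
    (fun D _ hD => ?_) (fun _ hA => noOff_of hn hA) (fun D hne hD => ?_) h0
  · exact (o2_le_GX (h.D_cent.trans (centralizer_le (hD.trans hV.le)))).trans hV.norm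
  · have hD2 : IsPGroup 2 D := S.isPGroup'.to_le (hD.trans (hV.le.trans h.V_le_S))
    exact NOne.LemmaT.char2_of_normal (MinSimple.Basic.char2_normalizer h.hG hD2 hne)
      (centralizer_le_normalizer _)
      (normalizer_le_of_cj (F := fun T => centralizer (T : Set G)) (fun g T => (cj_centralizer g T).symm) D)

theorem W_le_GX (hV : Md S P Y V) {F : Subgroup G} (hF : NOne.Flat.Hyp V F) :
    NOne.Flat.WW V F ≤ GX (S : Subgroup G) P Y :=
  NOne.Flat.Hyp.W_le_R.trans (o2_le_GX (h.D_cent.trans (centralizer_le (hF.F_le_V.trans hV.le))))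

/-- **the W-stage** -/
theorem exists_W (hV : Md S P Y V) (hn : NO3b.EZero.NotFF V) {F₀ : Subgroup G} (h0 : NOne.Flat.Bad V F₀) :
    (∃ F, ActW S P V F) ∨ ∃ F, PasW S P Y V F := by
  obtain ⟨F₁, -, hF⟩ := h.exists_hyp hV hn h0
  have hW2 : IsPGroup 2 (NOne.Flat.WW V F₁) := (isPGroup_o2 _).to_le NOne.Flat.Hyp.W_le_R
  rcases h.prin hV.le (h.W_le_GX hV hF) hW2 hF.W_move
    (𝓕 := {A | ∃ F, NOne.Flat.Hyp V F ∧ NOne.Flat.WW V F = A})
    (fun A hA n hn => by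
      obtain ⟨F, hF, rfl⟩ := hA
      have hnV : n ∈ normalizer (V : Set G) := hV.norm hn
      exact ⟨MulAut.conj n • F, hF.conj hnV, (NOne.Flat.WW_conj hnV).symm⟩)
    ⟨F₁, hF, rfl⟩ with ⟨A, ⟨F, hF', rfl⟩, hAS, hP⟩ | ⟨h1, A, ⟨F, hF', rfl⟩, hAP, hAY⟩
  · exact Or.inl ⟨F, hF', hAS, hP⟩
  · exact Or.inr ⟨F, hF', hAP, hAY, fun F₂ hF₂ hS => h1 _ ⟨F₂, hF₂, rfl⟩ hS⟩

/-- **THE CUT** for `V = ⟨Z^GX⟩`. -/
theorem cut : PasM S P Y (zl (S : Subgroup G) (GX (S : Subgroup G) P Y)) ∨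
    NO3b.EZero.NotFF (zl (S : Subgroup G) (GX (S : Subgroup G) P Y)) ∧
      ((∃ F, ActW S P (zl (S : Subgroup G) (GX (S : Subgroup G) P Y)) F) ∨
        ∃ F, PasW S P Y (zl (S : Subgroup G) (GX (S : Subgroup G) P Y)) F) := by
  by_cases hoff : ∃ A ≤ GX (S : Subgroup G) P Y, OffM (zl (S : Subgroup G) (GX (S : Subgroup G) P Y)) A
  · exact Or.inl (h.offP h.md_zl hoff)
  · have hn := h.nff_of h.md_zl hoff
    exact Or.inr ⟨hn, h.exists_W h.md_zl hn (h.bad_Z h.md_zl hn)⟩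

/-- **THE CUT** for `V = Ω₁(Z(DX))`. -/
theorem cutX : PasM S P Y (zc (DX (S : Subgroup G) P Y)) ∨ PasM S P Y (zl (S : Subgroup G) (GX (S : Subgroup G) P Y)) ∨
    NO3b.EZero.NotFF (zc (DX (S : Subgroup G) P Y)) ∧
      NO3b.EZero.NotFF (zl (S : Subgroup G) (GX (S : Subgroup G) P Y)) ∧
      ((∃ F, ActW S P (zc (DX (S : Subgroup G) P Y)) F) ∨ ∃ F, PasW S P Y (zc (DX (S : Subgroup G) P Y)) F) := by
  by_cases hoff : ∃ A ≤ GX (S : Subgroup G) P Y, OffM (zc (DX (S : Subgroup G) P Y)) A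
  · exact Or.inl (h.offP h.md_zc hoff)
  by_cases hoff' : ∃ A ≤ GX (S : Subgroup G) P Y, OffM (zl (S : Subgroup G) (GX (S : Subgroup G) P Y)) A
  · exact Or.inr (Or.inl (h.offP h.md_zl hoff'))
  · have hn := h.nff_of h.md_zc hoff
    have hn' := h.nff_of h.md_zl hoff'
    exact Or.inr (Or.inr ⟨hn, hn', h.exists_W h.md_zc hn (h.bad_Z h.md_zc hn')⟩)

end WQ

end Cfsg.Agent.Omega.NO3S.WY

end
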