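import Cfsg.Agent.Mrg.Omega.NO3S.WY.FinK
import Cfsg.Agent.Mrg.Omega.OM.LowT.LinGen
import Cfsg.Agent.Mrg.Omega.NO3S.WY.Tor.Lit
import Cfsg.Agent.Mrg.Omega.OM.LowT.TwoMain
import Cfsg.Agent.Mrg.Omega.OM.Lev.Low.PushRes
import Cfsg.Agent.Mrg.Omega.OM.Lev.Low.TorusK.LocIn

section


/-!
# NoW, `q = 2`: the finite stages, complete

* `linOf` : **(LIN) at the stage `0`** (366's `linH_of`, 388's `norm_or_lev`);
* `lowEnd_two` : `LowEnd 2` (808's `TwoMain`, `PushRes`);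
* **`finP : FinP K`**, for every class `K`, no hypotheses.
-/

set_option autoImplicit false
set_option linter.unusedSectionVars false
set_option linter.dupNamespace false

namespace Cfsg.Agent.Omega.NO3S.WY.FinOf

open Subgroup Cfsg Cfsg.Agent.ZN Cfsg.Agent.ZN.ChoiceBase Cfsg.Agent.Omega.MinPar Cfsg.Agent.Omega.Frame
open Cfsg.Agent.ZN.ChoiceSit (Syl)
open Cfsg.Agent.MinSimple.MinParabolic (IsMinPar)
open Cfsg.Agent.Omega.NO3S.Level
open Cfsg.Agent.Omega.Frame (Cls)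
open Cfsg.Agent.Omega.OM
open Cfsg.Agent.Omega.OM.SWT (LV Ln ZT BT)
open Cfsg.Agent.Omega.OM.LowT (LinH)
open Cfsg.Agent.Omega.NO3S.EThree.Frame (Bg)
open Cfsg.Agent.Omega.Node.MulX (MulL KX)
open Cfsg.Agent.Omega.NO3S.WY.Sel (Wd Mx FinP zc_B)

universe u

/-- **(LIN) at the stage `0`.** -/
theorem linOf {K : Cls.{u}} : LinOf K := by
  intro G _ _ _ S P B ZJ k L W Z C A hk hM hN j Y hw hx hj
  have hB := BT_top hM
  have hZ := ZT_top hM
  have hle : lev (S : Subgroup G) 0 ≤ o2 P := (lev_le_lim _ 0).trans hM.cl.lim_le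
  have h1 := LowT.LinGen.linH_of (n := topL hM.cl) (Y := Y) (j := 0) (ln_top hM hk) rfl hM.cl.norm_o2_le
    (hB.symm ▸ hw.syl) (hB.symm ▸ hw.par) hw.c2 (by rw [hB, zc_B hM]; exact hw.mv) hle
    (fun i hi => absurd hi (Nat.not_lt_zero i)) hj (by
      rw [hB, hZ]
      intro R' h1 h2 h3
      exact LowT.norm_or_lev hM hw hx hle hj h1 h2 h3)
  rwa [hB] at h1

/-- **`k = 2`.** -/
theorem lowEnd_two : LowEnd.{u} 2 := by
  intro G _ _ S P n L W Z C A hln hbg hall R hP hR hc j hj hlow hnj hlin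
  by_contra hZ
  obtain ⟨K, N₁, c, τ, ht⟩ := LowT.TwoMain.exists_tor_j hln hR hP hc hZ hj hlow hnj hlin
  obtain ⟨z, z1, z2, hr, hD⟩ := ht.exists_res hbg hZ (ht.le_V hlin)
  exact ht.not_loc hbg hall hZ (ht.le_V hlin) (hr.isLoc hD)

/-- **The finite stages.** -/
theorem finP {K : Cls.{u}} : FinP K := finP_two linOf OM.Lev.Low.TorusK.Done.torusOf lowEnd_two

end Cfsg.Agent.Omega.NO3S.WY.FinOf

end

section


/-!
# The infinite stage of `NoW`: the glue

* `TorOf K` : `MulL .. 2`, `WJ`, `Mx` give `TorP` ((ii) of #25080);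
* `TorEnd K` : `TorP` is impossible (THEOREM TOR, #25011);
* **`infP_of : TorOf K → TorEnd K → Sel.InfP K`**.
-/

set_option autoImplicit false
set_option linter.dupNamespace false

namespace Cfsg.Agent.Omega.NO3S.WY.InfOf

open Subgroup Cfsg Cfsg.Agent.ZN Cfsg.Agent.ZN.ChoiceBase
open Cfsg.Agent.Omega.Frame (Cls)
open Cfsg.Agent.Omega.Node.MultiOf
open Cfsg.Agent.Omega.Node.MulX (MulL KX)
open Cfsg.Agent.Omega.NO3S.WY.Sel (Mx InfP)

universe u

/-- **(TOR') from the maximal weird `Y` of the infinite stage** -/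
def TorOf (K : Cls.{u}) : Prop :=
  ∀ (G : Type u) [Group G] [Finite G], K G → ∀ (S : Sylow 2 G) (P B ZJ : Subgroup G) (k : ℕ)
    (L W Z C A : Fin k → Subgroup G), 2 ≤ k → MulL S P B ZJ L W Z C A 2 →
      NLoc (KX B ZJ (zl (S : Subgroup G) P)) → ∀ (j : Fin k) (Y : Subgroup G), WJ S P B Z j Y →
        Mx S P B ZJ Z Y → TorP S P B ZJ L W Z C A j Y

/-- **THEOREM TOR** -/
def TorEnd (K : Cls.{u}) : Prop :=
  ∀ (G : Type u) [Group G] [Finite G], K G → ∀ (S : Sylow 2 G) (P B ZJ : Subgroup G) (k : ℕ)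
    (L W Z C A : Fin k → Subgroup G), 2 ≤ k → ∀ (j : Fin k) (Y : Subgroup G), TorP S P B ZJ L W Z C A j Y → False

/-- **The infinite stage.** -/
theorem infP_of {K : Cls.{u}} (h1 : TorOf K) (h2 : TorEnd K) : InfP K := by
  intro G _ _ hK S P B ZJ k L W Z C A hk hM hN j Y hw hx
  exact h2 G hK S P B ZJ k L W Z C A hk j Y (h1 G hK S P B ZJ k L W Z C A hk hM hN j Y hw hx)

end Cfsg.Agent.Omega.NO3S.WY.InfOf

end
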