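import Cfsg.Agent.Mrg.Omega.NO3S.WY.Frame
import Cfsg.Agent.Mrg.Omega.NO3S.BetaFF.ActClaim
import Cfsg.Agent.Mrg.Omega.Spread.ElatOf


/-!
# The weird parabolics of the case (L): the groups `W_F`, and the local modules

`Md S P Y V`, `Flat.Hyp V F`, `W = W_F`, `E = E_F`.

* `her`, `bestW`, `offW` : `W_F` is a best offender on every subgroup of `E_F` which it does not centralise;
* `cent_AF`, `best_AF` : `A = C_W(L)` for an exact line `L ≤ E` : `C_E(A) = L F`, `A` offends on `L ≤ U ≤ E`;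
* `W_F ≤ S` : `zc_le_F`, `L_le_E` (`V_P ≤ E_F`), `W_BO` (`W_F` is a best offender on `V_P = Ω₁(Z(O₂(P)))`), `W_nxt`,
  `W_B` (`W_F ≤ B = C_S(Z_J)`), `ZJ_le_F` (`Z_J = Ω₁(Z(nxt S (O₂(P)))) ≤ F`), `X_le` (`C_G(F) ≤ C_G(Z_J)`), `L_le_F`;
* conjugates: `hyp_cj`, `WW_cj`, `R_le_F`, `le_E` ;
* `LMd` : the local module `U ≤ ⟨Z^GX⟩ ∩ O₂(C_G(R))`, `R ≤ Z_J`, of `H`, `T, Y ≤ H ≤ GX ∩ C_G(R)`; `LMd.zl` : `U = ⟨Ω₁Z(T)^H⟩`,
  `T` a Sylow subgroup of `C_G(R)`; `LMd.low` : `U = ⟨V_P^Y⟩`, `Y ≤ C_G(Z)`;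
* `LMd.exists_best` : some best offender `A ≤ T` on `U` moves `U`.
-/

set_option autoImplicit false
set_option linter.unusedSectionVars false
set_option linter.dupNamespace false

namespace Cfsg.Agent.Omega.NO3S.WY

open Subgroup Cfsg Cfsg.Agent.ZN Cfsg.Agent.ZN.ChoiceBase Cfsg.Agent.Omega.MinPar Cfsg.Agent.Omega.Frame
open Cfsg.Agent.ZN.ChoiceSit (Syl)
open Cfsg.Agent.Omega.FrameNOFF (CZ)
open Cfsg.Agent.MinSimple.VModule (oddGen)
open Cfsg.Agent.Omega.NO3b.EZero (cl cl_le)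
open Cfsg.Agent.Omega.NO3S.Level
open Cfsg.Agent.Omega.NO3S.RedC
open Cfsg.Agent.Omega.NO1.BestOff (Best)
open Cfsg.Agent.Omega.FFThm (OffM ElemM)
open scoped Pointwise

universe u

variable {G : Type u} [Group G] [Finite G]

/-! ### `W_F` on the subgroups of `E_F` -/

section flat

variable {V F : Subgroup G} (hF : NOne.Flat.Hyp V F)
include hF

/-- **OFF, hereditary** : `|W'| |C_U(W')| ≤ |W| |C_U(W)|` for `W' ≤ W`, `U ≤ E`. -/
theorem her {U : Subgroup G} (hU : U ≤ NOne.Flat.EE V F) {W' : Subgroup G} (hW : W' ≤ NOne.Flat.WW V F) :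
    Nat.card W' * Nat.card ↥(U ⊓ centralizer (W' : Set G)) ≤
      Nat.card (NOne.Flat.WW V F) * Nat.card ↥(U ⊓ centralizer (NOne.Flat.WW V F : Set G)) := by
  set E0 : Subgroup G := U ⊓ centralizer (W' : Set G) with hE0
  have hUW : U ⊓ centralizer (NOne.Flat.WW V F : Set G) ≤ E0 := inf_le_inf_left _ (centralizer_le hW)
  have e0 : E0 ⊓ centralizer (NOne.Flat.WW V F : Set G) = U ⊓ centralizer (NOne.Flat.WW V F : Set G) :=
    le_antisymm (inf_le_inf_right _ inf_le_left) (le_inf hUW inf_le_right)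
  have h1 := hF.off_of_le_all (Y := E0) (inf_le_left.trans hU)
  have e1 := NOne.Flat.card_mul_relIndex' hUW
  have h2 : (U ⊓ centralizer (NOne.Flat.WW V F : Set G)).relIndex E0 = (centralizer (NOne.Flat.WW V F : Set G)).relIndex E0 := by
    rw [← e0, inf_relIndex_left]
  rw [h2] at e1
  have hWc : W' ≤ NOne.Flat.WW V F ⊓ centralizer (E0 : Set G) :=
    le_inf hW (le_centralizer_iff.1 inf_le_right)
  have h3 : (centralizer (E0 : Set G)).relIndex (NOne.Flat.WW V F) ≤ W'.relIndex (NOne.Flat.WW V F) := by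
    rw [← inf_relIndex_left (NOne.Flat.WW V F) (centralizer (E0 : Set G))]
    exact relIndex_le_of_le_left hWc index_ne_zero_of_finite
  have e2 := NOne.Flat.card_mul_relIndex' hW
  calc Nat.card W' * Nat.card E0
      = Nat.card W' * (Nat.card ↥(U ⊓ centralizer (NOne.Flat.WW V F : Set G)) * (centralizer (NOne.Flat.WW V F : Set G)).relIndex E0) := by
        rw [e1]
    _ ≤ Nat.card W' * (Nat.card ↥(U ⊓ centralizer (NOne.Flat.WW V F : Set G)) * W'.relIndex (NOne.Flat.WW V F)) :=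
        Nat.mul_le_mul_left _ (Nat.mul_le_mul_left _ (h1.trans h3))
    _ = Nat.card W' * W'.relIndex (NOne.Flat.WW V F) * Nat.card ↥(U ⊓ centralizer (NOne.Flat.WW V F : Set G)) := by ring
    _ = _ := by rw [e2]

theorem elemW {U : Subgroup G} (hU : U ≤ V) : ElemM U (NOne.Flat.WW V F) :=
  ⟨fun a ha => centralizer_le hU (hF.elemM_W.sq a ha), fun a ha b hb => centralizer_le hU (hF.elemM_W.comm a ha b hb)⟩

/-- `W_F` is a best offender on all subgroups of `E_F`. -/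
theorem bestW {U : Subgroup G} (hU : U ≤ NOne.Flat.EE V F) : Best U (NOne.Flat.WW V F) where
  toElemM := elemW hF (hU.trans inf_le_left)
  max := fun _ hY _ => her hF hU hY

theorem offW {U : Subgroup G} (hU : U ≤ NOne.Flat.EE V F) (hne : ¬ NOne.Flat.WW V F ≤ centralizer (U : Set G)) : OffM U (NOne.Flat.WW V F) :=
  (bestW hF hU).offM le_rfl hne

theorem hyp_cj {g : G} (hg : g ∈ normalizer (V : Set G)) : NOne.Flat.Hyp V (MulAut.conj g • F) := hF.conj hg

/-- **exact lines**: `C_E(A) = L F` for `A = C_W(L)`, `L ≤ E`, if `W` is no over-offender on `L`. -/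
theorem cent_AF {L : Subgroup G} (hL : L ≤ NOne.Flat.EE V F)
    (hex : (centralizer (L : Set G)).relIndex (NOne.Flat.WW V F) ≤
      (centralizer (NOne.Flat.WW V F : Set G)).relIndex L) :
    NOne.Flat.EE V F ⊓ centralizer ((NOne.Flat.WW V F ⊓ centralizer (L : Set G) : Subgroup G) : Set G) = L ⊔ F := by
  set W := NOne.Flat.WW V F with hW
  set E := NOne.Flat.EE V F with hE
  set A : Subgroup G := W ⊓ centralizer (L : Set G) with hA
  have hle : L ⊔ F ≤ E ⊓ centralizer (A : Set G) := by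
    refine sup_le (le_inf hL (le_centralizer_iff.1 inf_le_right)) (le_inf hF.F_le_E ?_)
    rw [le_centralizer_iff]
    exact inf_le_left.trans NOne.Flat.Hyp.W_le_X
  symm
  refine Subgroup.eq_of_le_of_card_ge hle ?_
  have h1 := her hF (U := E) le_rfl (W' := A) inf_le_left
  rw [← hW, hF.cent_EW] at h1
  -- `|A| |C_E(A)| ≤ |W| |F|`
  have e1 : Nat.card A * (centralizer (L : Set G)).relIndex W = Nat.card W := by
    have e0 := NOne.Flat.card_mul_relIndex' (inf_le_left : W ⊓ centralizer (L : Set G) ≤ W)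
    rwa [inf_relIndex_left] at e0
  -- `|L F| = |F| |L : C_L(W)|`
  have hFL : F ≤ normalizer (L : Set G) :=
    (hF.F_le_V.trans (hF.comm.trans (centralizer_le (hL.trans inf_le_left)))).trans (centralizer_le_normalizer _)
  have hLF : L ≤ normalizer (F : Set G) :=
    ((hL.trans inf_le_left).trans (hF.comm.trans (centralizer_le hF.F_le_V))).trans (centralizer_le_normalizer _)
  have e2 := NOne.Flat.Off.card_sup_mul_inf hLF
  have e3 : L ⊓ F = L ⊓ centralizer (W : Set G) := by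
    apply le_antisymm
    · refine inf_le_inf_left _ ?_
      rw [le_centralizer_iff]
      exact NOne.Flat.Hyp.W_le_X
    · refine le_inf inf_le_left ?_
      rw [← hF.cent_EW]
      exact inf_le_inf_right _ hL
  rw [e3] at e2
  have e4 := NOne.Flat.card_mul_relIndex' (inf_le_left : L ⊓ centralizer (W : Set G) ≤ L)
  rw [inf_relIndex_left] at e4
  have hp1 : 0 < Nat.card A := Nat.card_pos
  have hp2 : 0 < Nat.card ↥(L ⊓ centralizer (W : Set G)) := Nat.card_pos
  refine Nat.le_of_mul_le_mul_left ?_ (Nat.mul_pos hp1 hp2)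
  calc Nat.card A * Nat.card ↥(L ⊓ centralizer (W : Set G)) * Nat.card ↥(E ⊓ centralizer (A : Set G))
      = (Nat.card A * Nat.card ↥(E ⊓ centralizer (A : Set G))) * Nat.card ↥(L ⊓ centralizer (W : Set G)) := by ring
    _ ≤ (Nat.card W * Nat.card F) * Nat.card ↥(L ⊓ centralizer (W : Set G)) := Nat.mul_le_mul_right _ h1
    _ = Nat.card A * (centralizer (L : Set G)).relIndex W * Nat.card F *
          Nat.card ↥(L ⊓ centralizer (W : Set G)) := by rw [e1]
    _ ≤ Nat.card A * (centralizer (W : Set G)).relIndex L * Nat.card F *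
          Nat.card ↥(L ⊓ centralizer (W : Set G)) :=
        Nat.mul_le_mul_right _ (Nat.mul_le_mul_right _ (Nat.mul_le_mul_left _ hex))
    _ = Nat.card A * (Nat.card ↥(L ⊓ centralizer (W : Set G)) * (centralizer (W : Set G)).relIndex L) *
          Nat.card F := by ring
    _ = Nat.card A * Nat.card L * Nat.card F := by rw [e4]
    _ = Nat.card A * (Nat.card ↥(L ⊔ F) * Nat.card ↥(L ⊓ centralizer (W : Set G))) := by rw [e2]; ring
    _ = _ := by ring

/-- **exact lines**: `A = C_W(L)` is trivial or an offender on every `U` with `L ≤ U ≤ E`: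
`|U| |C_A(U)| ≤ |A| |C_U(A)|`. -/
theorem best_AF {L U : Subgroup G} (hLU : L ≤ U) (hU : U ≤ NOne.Flat.EE V F)
    (hex : (centralizer (L : Set G)).relIndex (NOne.Flat.WW V F) ≤
      (centralizer (NOne.Flat.WW V F : Set G)).relIndex L) :
    Nat.card U * Nat.card ↥((NOne.Flat.WW V F ⊓ centralizer (L : Set G)) ⊓ centralizer (U : Set G)) ≤
      Nat.card ↥(NOne.Flat.WW V F ⊓ centralizer (L : Set G)) *
        Nat.card ↥(U ⊓ centralizer ((NOne.Flat.WW V F ⊓ centralizer (L : Set G) : Subgroup G) : Set G)) := by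
  set W := NOne.Flat.WW V F with hW
  set A : Subgroup G := W ⊓ centralizer (L : Set G) with hA
  have hAU : A ⊓ centralizer (U : Set G) = W ⊓ centralizer (U : Set G) := by
    rw [hA, inf_assoc]
    congr 1
    exact inf_eq_right.2 (centralizer_le hLU)
  -- OFF on `U` for `W`
  have h1 : Nat.card U * Nat.card ↥(W ⊓ centralizer (U : Set G)) ≤
      Nat.card W * Nat.card ↥(U ⊓ centralizer (W : Set G)) := by
    have h2 := hF.off_of_le_all hU
    have e1 := NOne.Flat.card_mul_relIndex' (inf_le_left : U ⊓ centralizer (W : Set G) ≤ U)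
    have e2 := NOne.Flat.card_mul_relIndex' (inf_le_left : W ⊓ centralizer (U : Set G) ≤ W)
    rw [inf_relIndex_left] at e1 e2
    calc Nat.card U * Nat.card ↥(W ⊓ centralizer (U : Set G))
        = Nat.card ↥(U ⊓ centralizer (W : Set G)) * (centralizer (W : Set G)).relIndex U *
            Nat.card ↥(W ⊓ centralizer (U : Set G)) := by rw [e1]
      _ ≤ Nat.card ↥(U ⊓ centralizer (W : Set G)) * (centralizer (U : Set G)).relIndex W *
            Nat.card ↥(W ⊓ centralizer (U : Set G)) :=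
          Nat.mul_le_mul_right _ (Nat.mul_le_mul_left _ h2)
      _ = Nat.card ↥(U ⊓ centralizer (W : Set G)) *
            (Nat.card ↥(W ⊓ centralizer (U : Set G)) * (centralizer (U : Set G)).relIndex W) := by ring
      _ = _ := by rw [e2]; ring
  -- `|C_U(A)| ≥ |L C_U(W)| = |C_U(W)| |L : C_L(W)| ≥ |C_U(W)| |W : A|`
  set K : Subgroup G := U ⊓ centralizer (W : Set G) with hK
  have hUV : U ≤ V := hU.trans inf_le_left
  have hLK : L ≤ normalizer (K : Set G) :=
    ((hLU.trans hUV).trans (hF.comm.trans (centralizer_le (inf_le_left.trans hUV)))).trans (centralizer_le_normalizer _)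
  have e2 := NOne.Flat.Off.card_sup_mul_inf hLK
  have e3 : L ⊓ K = L ⊓ centralizer (W : Set G) := by
    rw [hK, ← inf_assoc, inf_eq_left.2 hLU]
  rw [e3] at e2
  have e4 := NOne.Flat.card_mul_relIndex' (inf_le_left : L ⊓ centralizer (W : Set G) ≤ L)
  rw [inf_relIndex_left] at e4
  have h5 : L ⊔ K ≤ U ⊓ centralizer (A : Set G) :=
    sup_le (le_inf hLU (le_centralizer_iff.1 inf_le_right)) (inf_le_inf_left _ (centralizer_le inf_le_left))
  have h6 := card_le_of_le h5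
  have e1 : Nat.card A * (centralizer (L : Set G)).relIndex W = Nat.card W := by
    have e0 := NOne.Flat.card_mul_relIndex' (inf_le_left : W ⊓ centralizer (L : Set G) ≤ W)
    rwa [inf_relIndex_left] at e0
  have hp2 : 0 < Nat.card ↥(L ⊓ centralizer (W : Set G)) := Nat.card_pos
  rw [hAU]
  refine Nat.le_of_mul_le_mul_right ?_ hp2
  calc Nat.card U * Nat.card ↥(W ⊓ centralizer (U : Set G)) * Nat.card ↥(L ⊓ centralizer (W : Set G))
      ≤ Nat.card W * Nat.card K * Nat.card ↥(L ⊓ centralizer (W : Set G)) := Nat.mul_le_mul_right _ h1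
    _ = Nat.card A * (centralizer (L : Set G)).relIndex W * Nat.card K *
          Nat.card ↥(L ⊓ centralizer (W : Set G)) := by rw [e1]
    _ ≤ Nat.card A * (centralizer (W : Set G)).relIndex L * Nat.card K *
          Nat.card ↥(L ⊓ centralizer (W : Set G)) :=
        Nat.mul_le_mul_right _ (Nat.mul_le_mul_right _ (Nat.mul_le_mul_left _ hex))
    _ = Nat.card A * (Nat.card ↥(L ⊓ centralizer (W : Set G)) * (centralizer (W : Set G)).relIndex L) *
          Nat.card K := by ring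
    _ = Nat.card A * (Nat.card L * Nat.card K) := by rw [e4]; ring
    _ = Nat.card A * (Nat.card ↥(L ⊔ K) * Nat.card ↥(L ⊓ centralizer (W : Set G))) := by rw [e2]
    _ ≤ Nat.card A * (Nat.card ↥(U ⊓ centralizer (A : Set G)) * Nat.card ↥(L ⊓ centralizer (W : Set G))) :=
        Nat.mul_le_mul_left _ (Nat.mul_le_mul_right _ h6)
    _ = _ := by ring

end flat

theorem WW_cj {V F : Subgroup G} {g : G} (hg : g ∈ normalizer (V : Set G)) :
    NOne.Flat.WW V (MulAut.conj g • F) = cj g (NOne.Flat.WW V F) := (NOne.Flat.WW_conj hg).symm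

/-- Restriction of best offenders. -/
theorem best_mono {V U A : Subgroup G} (hA : Best V A) (hU : U ≤ V) (hVc : V ≤ centralizer (V : Set G)) :
    Best U A where
  sq := fun a ha => centralizer_le hU (hA.sq a ha)
  comm := fun a ha b hb => centralizer_le hU (hA.comm a ha b hb)
  max := fun Y hY _ => by
    set Y₁ : Subgroup G := Y ⊔ (A ⊓ centralizer (V : Set G)) with hY₁
    set K : Subgroup G := V ⊓ centralizer (A : Set G) with hK
    have hY₁A : Y₁ ≤ A := sup_le hY inf_le_left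
    have h1 := hA.max Y₁ hY₁A le_sup_right
    have h2 : (U ⊓ centralizer (Y : Set G)) ⊔ K ≤ V ⊓ centralizer (Y₁ : Set G) := by
      refine sup_le (le_inf (inf_le_left.trans hU) ?_) (inf_le_inf_left _ (centralizer_le hY₁A))
      rw [le_centralizer_iff]
      refine sup_le (le_centralizer_iff.1 inf_le_right) (inf_le_right.trans (centralizer_le (inf_le_left.trans hU)))
    have hn : U ⊓ centralizer (Y : Set G) ≤ normalizer (K : Set G) :=
      ((inf_le_left.trans hU).trans (hVc.trans (centralizer_le (inf_le_left : K ≤ V)))).trans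
        (centralizer_le_normalizer _)
    have h3 := NOne.Flat.Off.card_sup_mul_inf hn
    have h4 : (U ⊓ centralizer (Y : Set G)) ⊓ K = U ⊓ centralizer (A : Set G) := by
      apply le_antisymm
      · exact le_inf (inf_le_left.trans inf_le_left) (inf_le_right.trans inf_le_right)
      · exact le_inf (inf_le_inf_left _ (centralizer_le hY)) (inf_le_inf_right _ hU)
    rw [h4] at h3
    have h5 : Nat.card ↥((U ⊓ centralizer (Y : Set G)) ⊔ K : Subgroup G) ≤
        Nat.card ↥(V ⊓ centralizer (Y₁ : Set G)) := card_le_of_le h2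
    have h6 : Nat.card Y ≤ Nat.card Y₁ := card_le_of_le le_sup_left
    have hKpos : 0 < Nat.card K := Nat.card_pos
    refine Nat.le_of_mul_le_mul_right ?_ hKpos
    calc Nat.card Y * Nat.card ↥(U ⊓ centralizer (Y : Set G)) * Nat.card K
        = Nat.card Y * (Nat.card ↥(U ⊓ centralizer (Y : Set G)) * Nat.card K) := by ring
      _ = Nat.card Y * (Nat.card ↥((U ⊓ centralizer (Y : Set G)) ⊔ K : Subgroup G) *
            Nat.card ↥(U ⊓ centralizer (A : Set G))) := by rw [h3]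
      _ ≤ Nat.card Y₁ * (Nat.card ↥(V ⊓ centralizer (Y₁ : Set G)) *
            Nat.card ↥(U ⊓ centralizer (A : Set G))) := Nat.mul_le_mul h6 (Nat.mul_le_mul_right _ h5)
      _ = (Nat.card Y₁ * Nat.card ↥(V ⊓ centralizer (Y₁ : Set G))) *
            Nat.card ↥(U ⊓ centralizer (A : Set G)) := by ring
      _ ≤ (Nat.card A * Nat.card K) * Nat.card ↥(U ⊓ centralizer (A : Set G)) := Nat.mul_le_mul_right _ h1
      _ = Nat.card A * Nat.card ↥(U ⊓ centralizer (A : Set G)) * Nat.card K := by ring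

/-! ### `W_F ≤ S` -/

/-- `Z_J = Ω₁(Z(nxt S (O₂(P))))` -/
abbrev ZJ (S P : Subgroup G) : Subgroup G := zc (nxt S (o2 P))

/-- `B = C_S(Z_J)` -/
abbrev BB (S P : Subgroup G) : Subgroup G := S ⊓ centralizer (ZJ S P : Set G)

/-- `Z_J ≤ V_P` -/
theorem ZJ_le {S : Sylow 2 G} {P : Subgroup G} (h : CaseL S P) : ZJ (S : Subgroup G) P ≤ zl (S : Subgroup G) P := by
  rw [← h.zc_eq]
  exact h.levQ.zc_le_zc (le_nxt h.levQ.le) (nxt_le _ _)

theorem nxt_le_BB (S P : Subgroup G) : nxt S (o2 P) ≤ BB S P := le_inf (nxt_le _ _) (Level.le_centralizer_zc _)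

theorem o2_le_BB {S : Sylow 2 G} {P : Subgroup G} (h : CaseL S P) : o2 P ≤ BB (S : Subgroup G) P :=
  (le_nxt h.levQ.le).trans (nxt_le_BB _ _)

namespace WQ

variable {S : Sylow 2 G} {P T Y V : Subgroup G} (h : WQ S P T Y)
include h

theorem L_le_V (hV : Md S P Y V) : zl (S : Subgroup G) P ≤ V := h.L_le_zl.trans hV.ge

theorem Z_le_V (hV : Md S P Y V) : zc (S : Subgroup G) ≤ V := ZN.zc_le_zl.trans (h.L_le_V hV)

theorem Vc (hV : Md S P Y V) : V ≤ centralizer (V : Set G) := hV.le.trans (h.V_comm.trans (centralizer_le hV.le))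

variable {F : Subgroup G}

theorem zc_le_F (hV : Md S P Y V) (hF : NOne.Flat.Hyp V F) (hW : NOne.Flat.WW V F ≤ (S : Subgroup G)) :
    zc (S : Subgroup G) ≤ F := BetaFF.zc_le_F hF (h.Z_le_V hV) hW

/-- `V_P ≤ E_F` -/
theorem L_le_E (hV : Md S P Y V) (hF : NOne.Flat.Hyp V F) (hW : NOne.Flat.WW V F ≤ (S : Subgroup G)) :
    zl (S : Subgroup G) P ≤ NOne.Flat.EE V F :=
  BetaFF.le_EE_of_low hF (h.L_le_V hV) (h.zc_le_F hV hF hW) (h.cl.hypN.low P h.parP)

/-- `W_F ≤ S` is a best offender on `V_P = Ω₁(Z(O₂(P)))`. -/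
theorem W_BO (hV : Md S P Y V) (hF : NOne.Flat.Hyp V F) (hW : NOne.Flat.WW V F ≤ (S : Subgroup G)) :
    NOne.Flat.WW V F ∈ BO (S : Subgroup G) (o2 P) := by
  refine ⟨hW, ?_⟩
  rw [h.cl.zc_eq]
  exact bestW hF (h.L_le_E hV hF hW)

theorem W_nxt (hV : Md S P Y V) (hF : NOne.Flat.Hyp V F) (hW : NOne.Flat.WW V F ≤ (S : Subgroup G)) :
    NOne.Flat.WW V F ≤ nxt (S : Subgroup G) (o2 P) := BO.le_nxt (h.W_BO hV hF hW)

/-- `W_F ≤ B` -/
theorem W_B (hV : Md S P Y V) (hF : NOne.Flat.Hyp V F) (hW : NOne.Flat.WW V F ≤ (S : Subgroup G)) :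
    NOne.Flat.WW V F ≤ BB (S : Subgroup G) P := (h.W_nxt hV hF hW).trans (nxt_le_BB _ _)

/-- `Z_J ≤ F` -/
theorem ZJ_le_F (hV : Md S P Y V) (hF : NOne.Flat.Hyp V F) (hW : NOne.Flat.WW V F ≤ (S : Subgroup G)) :
    ZJ (S : Subgroup G) P ≤ F := by
  rw [← hF.cent_VW]
  exact le_inf ((ZJ_le h.cl).trans (h.L_le_V hV)) (le_centralizer_iff.1 ((h.W_B hV hF hW).trans inf_le_right))

/-- `C_G(F) ≤ C_G(Z_J)` -/
theorem X_le (hV : Md S P Y V) (hF : NOne.Flat.Hyp V F) (hW : NOne.Flat.WW V F ≤ (S : Subgroup G)) :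
    centralizer (F : Set G) ≤ centralizer (ZJ (S : Subgroup G) P : Set G) := centralizer_le (h.ZJ_le_F hV hF hW)

/-- `V_P ≤ F` if `W_F ≤ O₂(P)` -/
theorem L_le_F (hV : Md S P Y V) (hF : NOne.Flat.Hyp V F) (hW : NOne.Flat.WW V F ≤ o2 P) :
    zl (S : Subgroup G) P ≤ F := by
  rw [← hF.cent_VW]
  refine le_inf (h.L_le_V hV) (le_centralizer_iff.1 (hW.trans ?_))
  rw [← h.cl.zc_eq]
  exact Level.le_centralizer_zc _

/-- `W_F ≤ S`, `W_F ≰ O₂(P)` moves `V_P` -/
theorem W_mv {A : Subgroup G} (hW : A ≤ (S : Subgroup G)) (hP : ¬ A ≤ o2 P) :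
    ¬ A ≤ centralizer (zl (S : Subgroup G) P : Set G) := fun hc => hP (by
  rw [← h.parP.inf_centralizer S h.hG]
  exact le_inf hW hc)

/-- `R ≤ Z_J`, `g ∈ C_G(R) ∩ GX`, `W_F^g ≤ S` : `R ≤ F` -/
theorem R_le_F (hV : Md S P Y V) (hF : NOne.Flat.Hyp V F) {R : Subgroup G} (hR : R ≤ ZJ (S : Subgroup G) P) {g : G}
    (hg : g ∈ GX (S : Subgroup G) P Y) (hgR : g ∈ centralizer (R : Set G)) (hW : cj g (NOne.Flat.WW V F) ≤ (S : Subgroup G)) :
    R ≤ F := by
  have hgV : g ∈ normalizer (V : Set G) := hV.norm hg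
  have h1 : R ≤ MulAut.conj g • F := hR.trans (h.ZJ_le_F hV (hF.conj hgV) (by rw [WW_cj hgV]; exact hW))
  intro r hr
  obtain ⟨f, hf, e⟩ := h1 hr
  have e1 : g * f * g⁻¹ = r := e
  have e2 : r * g = g * r := mem_centralizer_iff.1 hgR r hr
  have e3 : f = r := by
    have : f = g⁻¹ * (g * f * g⁻¹) * g := by group
    rw [this, e1, mul_assoc, e2]
    group
  rwa [← e3]

/-- A subgroup of `V ∩ O₂(C_G(R))` lies in `E_F`. -/
theorem le_E (hV : Md S P Y V) (hF : NOne.Flat.Hyp V F) {R U : Subgroup G} (hR : R ≤ ZJ (S : Subgroup G) P)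
    (hU : U ≤ V) (hUO : U ≤ o2 (centralizer (R : Set G))) {g : G}
    (hg : g ∈ GX (S : Subgroup G) P Y) (hgR : g ∈ centralizer (R : Set G)) (hW : cj g (NOne.Flat.WW V F) ≤ (S : Subgroup G)) :
    U ≤ NOne.Flat.EE V F := BetaFF.le_EE_of_low hF hU (h.R_le_F hV hF hR hg hgR hW) hUO

/-- A subgroup of `V ∩ O₂(C_G(R))` lies in `E_F`, `W_F ≤ S`. -/
theorem le_E' (hV : Md S P Y V) (hF : NOne.Flat.Hyp V F) {R U : Subgroup G} (hR : R ≤ ZJ (S : Subgroup G) P)
    (hU : U ≤ V) (hUO : U ≤ o2 (centralizer (R : Set G))) (hW : NOne.Flat.WW V F ≤ (S : Subgroup G)) :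
    U ≤ NOne.Flat.EE V F := BetaFF.le_EE_of_low hF hU (hR.trans (h.ZJ_le_F hV hF hW)) hUO

end WQ

/-! ### The local module -/

/-- **The local module.** -/
structure LMd (S : Sylow 2 G) (P T Y R H U : Subgroup G) : Prop where
  wq : WQ S P T Y
  BT : BB (S : Subgroup G) P ≤ T
  RZ : R ≤ ZJ (S : Subgroup G) P
  TH : T ≤ H
  YH : Y ≤ H
  HG : H ≤ GX (S : Subgroup G) P Y
  HC : H ≤ centralizer (R : Set G)
  UV : U ≤ zl (S : Subgroup G) (GX (S : Subgroup G) P Y)
  UO : U ≤ o2 (centralizer (R : Set G))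
  Un : H ≤ normalizer (U : Set G)
  mv : ¬ oddGen Y ≤ centralizer (U : Set G)

namespace LMd

/-- `Ω₁(Z(T)) ≤ Ω₁(Z(O₂(C)))` -/
theorem zc_le_zc_o2 {T C : Subgroup G} (hT : Syl T C) (hc : C ⊓ centralizer (o2 C : Set G) ≤ o2 C) :
    zc T ≤ zc (o2 C) := by
  intro v hv
  obtain ⟨hvT, hv2, hvc⟩ := ChoiceBase.mem_zc.1 hv
  have h1 : ∀ y ∈ o2 C, y * v = v * y := fun y hy => hvc y (ChoiceSit.o2_le_syl hT hy)
  exact ChoiceBase.mem_zc.2 ⟨hc ⟨hT.1 hvT, mem_centralizer_iff.2 h1⟩, hv2, h1⟩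

/-- **`U = ⟨Ω₁(Z(T))^H⟩`**, `T` a Sylow 2-subgroup of `C_G(R)`. -/
theorem zl {S : Sylow 2 G} {P T Y R H : Subgroup G} (h : WY S P T Y) (BT : BB (S : Subgroup G) P ≤ T)
    (RZ : R ≤ ZJ (S : Subgroup G) P) (Rn : R ≠ ⊥) (hT : Syl T (centralizer (R : Set G))) (TH : T ≤ H) (YH : Y ≤ H)
    (HG : H ≤ GX (S : Subgroup G) P Y) (HC : H ≤ centralizer (R : Set G)) :
    LMd S P T Y R H (ZN.zl T H) where
  wq := h.toWQ
  BT := BT
  RZ := RZ
  TH := TH
  YH := YH
  HG := HG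
  HC := HC
  UV := ZN.zl_le (h.zcT_le.trans h.L_le_zl) (HG.trans (ZN.le_normalizer_zl _ _))
  UO := by
    have hR2 : IsPGroup 2 R := S.isPGroup'.to_le ((RZ.trans (ZN.zc_le _)).trans (nxt_le _ _))
    have hc := NOne.LemmaT.char2_of_normal (MinSimple.Basic.char2_normalizer h.hG hR2 Rn)
      (centralizer_le_normalizer _)
      (normalizer_le_of_cj (F := fun T => centralizer (T : Set G)) (fun g T => (cj_centralizer g T).symm) R)
    refine (ZN.zl_le (zc_le_zc_o2 hT hc) ?_).trans (ZN.zc_le _)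
    exact (HC.trans (ZN.le_normalizer_o2 _)).trans (normalizer_le_zc _)
  Un := ZN.le_normalizer_zl _ _
  mv := fun hc => by
    apply h.mv
    rw [← NO3b.EZero.oddGen_sup_syl h.syl]
    exact sup_le (hc.trans (centralizer_le (MinSimple.VModule.zc_le_zl _ _))) (Level.le_centralizer_zc _)

/-- **The low module** `U = ⟨V_P^Y⟩`, `Y ≤ C_G(Z)`. -/
theorem low {S : Sylow 2 G} {P T Y : Subgroup G} (h : WQ S P T Y) (BT : BB (S : Subgroup G) P ≤ T)
    (hY : Y ≤ CZ (S : Subgroup G)) :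
    LMd S P T Y (zc (S : Subgroup G)) Y (cl (ZN.zl (S : Subgroup G) P) Y) where
  wq := h
  BT := BT
  RZ := h.cl.levQ.next.zc_le
  TH := h.T_Y
  YH := le_rfl
  HG := h.Y_le
  HC := hY
  UV := cl_le fun y hy => by
    have h1 := cj_mono y h.L_le_zl
    have h2 : cj y (ZN.zl (S : Subgroup G) (GX (S : Subgroup G) P Y)) =
      ZN.zl (S : Subgroup G) (GX (S : Subgroup G) P Y) := cj_eq_of_mem_normalizer (ZN.le_normalizer_zl _ _ (h.Y_le hy))
    rwa [h2] at h1
  UO := cl_le fun y hy => by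
    have h1 := cj_mono y (h.cl.hypN.low P h.parP)
    have h2 : cj y (o2 (CZ (S : Subgroup G))) = o2 (CZ (S : Subgroup G)) :=
      cj_eq_of_mem_normalizer (ZN.le_normalizer_o2 _ (hY hy))
    rwa [h2] at h1
  Un := NO3b.EZero.le_normalizer_cl _ _
  mv := fun hc => h.mvL (hc.trans (centralizer_le (NO3b.EZero.le_cl _ _)))

variable {S : Sylow 2 G} {P T Y R H U : Subgroup G} (m : LMd S P T Y R H U)
include m

theorem Uc : U ≤ centralizer (U : Set G) :=
  (m.UV.trans (m.wq.Vc m.wq.md_zl)).trans (centralizer_le m.UV)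

/-- `C_T(U₀) ≤ O₂(Y)` if `O²(Y)` moves the `Y`-invariant group `U₀` -/
theorem cT_le {U₀ : Subgroup G} (hn : Y ≤ normalizer (U₀ : Set G)) (hmv : ¬ oddGen Y ≤ centralizer (U₀ : Set G)) :
    T ⊓ centralizer (U₀ : Set G) ≤ o2 Y := by
  have hYY : Y ≤ normalizer ((Y ⊓ centralizer (U₀ : Set G) : Subgroup G) : Set G) :=
    NO3b.EZero.le_normalizer_inf_cent hn
  rcases NO3b.K0.min_or m.wq.syl m.wq.min (K := Y ⊓ centralizer (U₀ : Set G)) inf_le_left hYY with h2 | h2
  · exact absurd (h2.trans inf_le_right) hmv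
  · exact (le_inf inf_le_left (inf_le_inf_right _ m.wq.T_Y)).trans h2

/-- A subgroup of `T` which is not in `O₂(Y)` moves `U`. -/
theorem not_cent {A : Subgroup G} (hA : A ≤ T) (hY : ¬ A ≤ o2 Y) : ¬ A ≤ centralizer (U : Set G) := fun hc =>
  hY ((le_inf hA hc).trans (m.cT_le (m.YH.trans m.Un) m.mv))

/-- `U ≤ E_F` if a conjugate of `W_F` under `H` lies in `S` (`V = ⟨Z^GX⟩`, or any `V` with `Md`) -/
theorem U_E {V F : Subgroup G} (hV : Md S P Y V) (hF : NOne.Flat.Hyp V F) {g : G} (hg : g ∈ H)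
    (hW : cj g (NOne.Flat.WW V F) ≤ (S : Subgroup G)) : U ≤ NOne.Flat.EE V F :=
  m.wq.le_E hV hF m.RZ (m.UV.trans hV.ge) m.UO (m.HG hg) (m.HC hg) hW

theorem U_E' {V F : Subgroup G} (hV : Md S P Y V) (hF : NOne.Flat.Hyp V F) (hW : NOne.Flat.WW V F ≤ (S : Subgroup G)) :
    U ≤ NOne.Flat.EE V F := m.wq.le_E' hV hF m.RZ (m.UV.trans hV.ge) m.UO hW

/-- **some best offender `A ≤ T` on `U` moves `U`.** `hN` : every `A ≤ S` which moves `V_P` has a conjugate under `S`
which moves `U`. -/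
theorem exists_best (hN : ∀ A : Subgroup G, A ≤ (S : Subgroup G) → ¬ A ≤ o2 P →
    ∃ s ∈ (S : Subgroup G), ¬ cj s A ≤ centralizer (U : Set G)) :
    ∃ A : Subgroup G, A ≤ T ∧ Best U A ∧ ¬ A ≤ centralizer (U : Set G) := by
  have h := m.wq
  have hV : Md S P Y (ZN.zl (S : Subgroup G) (GX (S : Subgroup G) P Y)) := h.md_zl
  rcases h.cut with hp | ⟨hn, ⟨F, hw⟩ | ⟨F, hw⟩⟩
  · obtain ⟨A, mA, hAP, hAY⟩ := hp.act
    exact ⟨A, hAP.trans h.QT, best_mono mA.best m.UV (h.Vc hV), m.not_cent (hAP.trans h.QT) hAY⟩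
  · obtain ⟨s, hs, hne⟩ := hN _ hw.WS hw.mv
    have hsV : s ∈ normalizer (ZN.zl (S : Subgroup G) (GX (S : Subgroup G) P Y) : Set G) := hV.norm (h.S_le hs)
    have hWs : NOne.Flat.WW (ZN.zl (S : Subgroup G) (GX (S : Subgroup G) P Y)) (MulAut.conj s • F) ≤
        (S : Subgroup G) := by
      rw [WW_cj hsV]
      have := cj_mono s hw.WS
      rwa [cj_eq_of_mem_normalizer (le_normalizer hs : s ∈ normalizer ((S : Subgroup G) : Set G))] at this
    have hFs := hyp_cj hw.hyp hsV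
    rw [← WW_cj hsV] at hne
    exact ⟨_, (h.W_B hV hFs hWs).trans m.BT, bestW hFs (m.U_E' hV hFs hWs), hne⟩
  · have hWS := hw.WQ.trans h.o2P_le
    exact ⟨_, hw.WQ.trans h.QT, bestW hw.hyp (m.U_E' hV hw.hyp hWS), m.not_cent (hw.WQ.trans h.QT) hw.mv⟩

end LMd

end Cfsg.Agent.Omega.NO3S.WY
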