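import Cfsg.Agent.Mrg.Omega.NO3S.WY.FinOf
import Cfsg.Agent.Mrg.Omega.OM.LowT.Full
import Cfsg.Agent.Mrg.Omega.OM.LowT.PlugE


/-!
# NoW, `q = 2`, finite stages, `k ≥ 3`

`lowEnd_ge` : `LowEnd k` for `k ≥ 3` from the torus theorem `TorusOf`; `finP_two : LinOf K → LowEnd 2 → FinP K`.
-/

set_option autoImplicit false
set_option linter.unusedSectionVars false
set_option linter.dupNamespace false

namespace Cfsg.Agent.Omega.NO3S.WY.FinOf

open Subgroup Cfsg Cfsg.Agent.ZN Cfsg.Agent.ZN.ChoiceBase Cfsg.Agent.Omega.MinPar Cfsg.Agent.Omega.Frame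
open Cfsg.Agent.Omega.Frame (Cls)
open Cfsg.Agent.Omega.OM.Lev.Low.PlugE (TorusOf)
open Cfsg.Agent.Omega.NO3S.WY.Sel (FinP)

universe u

/-- **`k ≥ 3`.** -/
theorem lowEnd_ge (hT : TorusOf.{u}) (k : ℕ) (hk : 3 ≤ k) : LowEnd.{u} k := by
  intro G _ _ S P n L W Z C A hln hbg hall R hP hR hc j hj hlow hnj hlin
  by_contra hZ
  obtain ⟨K, N₁, c, τ, l, hb⟩ := OM.LowT.Core.exists_blk_at hln hbg hP hR hc hj hlow hnj hZ hlin
  exact OM.LowT.PlugE.false_of_blk hT hk hall hb.bk0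

/-- the finite stages from (LIN), the torus theorem and the end for `k = 2` -/
theorem finP_two {K : Cls.{u}} (hL : LinOf K) (hT : TorusOf.{u}) (h2 : LowEnd.{u} 2) : FinP K :=
  finP_of hL h2 (lowEnd_ge hT)

end Cfsg.Agent.Omega.NO3S.WY.FinOf
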