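import Mathlib
import Cfsg.Agent.SignalizersComponents.RelSylow

section


/-!
# The odd kernel lemma ((0) of THEOREM TOR, helper474 #25011): abelian normal subgroups of odd order

`H` acts on the abelian group `N` of exponent 2.

* `nm K n = ∏ k ∈ K, k • n`;
* `QP s t` : commuting `s`, `t` with `s² = t² = 1`, quadratic on `N`;
* `QP.fix` : `b` centralised by `s`, inverted by `t`; `c` inverted by `s` ⟹ `c` fixes `n (b n)`;
* `Mx A v K` : `K ≤ A` maximal with `nm K v ≠ 1`; `Mx.stab`, `Mx.two`, `Mx.conj`, `Mx.own`.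
-/

set_option autoImplicit false
set_option linter.unusedSectionVars false
set_option linter.style.haveILetI false

namespace Cfsg.Agent.Omega.NO3S.WY.OddKer

open Subgroup

section nm

variable {H N : Type*} [Group H] [Finite H] [CommGroup N] [MulDistribMulAction H N]

/-- the norm -/
noncomputable def nm (K : Subgroup H) : N →* N :=
  @Finset.prod K (N →* N) _ (@Finset.univ K (Fintype.ofFinite K)) fun k => MulDistribMulAction.toMonoidHom N (k : H)

theorem nm_apply (K : Subgroup H) (n : N) :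
    nm K n = @Finset.prod K N _ (@Finset.univ K (Fintype.ofFinite K)) fun k => (k : H) • n := by
  rw [nm, MonoidHom.finsetProd_apply]
  rfl

theorem nm_smul {K : Subgroup H} {k : H} (hk : k ∈ K) (n : N) : nm K (k • n) = nm K n := by
  letI := Fintype.ofFinite K
  rw [nm_apply, nm_apply]
  refine Fintype.prod_equiv (Equiv.mulRight (⟨k, hk⟩ : K)) _ _ fun x => ?_
  simp [mul_smul]

theorem smul_nm_self {K : Subgroup H} {k : H} (hk : k ∈ K) (n : N) : k • nm K n = nm K n := by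
  letI := Fintype.ofFinite K
  rw [nm_apply, Finset.smul_prod']
  refine Fintype.prod_equiv (Equiv.mulLeft (⟨k, hk⟩ : K)) _ _ fun x => ?_
  simp [mul_smul]

theorem smul_nm {K : Subgroup H} {g : H} (hg : ∀ k ∈ K, g * k * g⁻¹ ∈ K) (n : N) : g • nm K n = nm K (g • n) := by
  letI := Fintype.ofFinite K
  rw [nm_apply, nm_apply, Finset.smul_prod']
  let f : K → K := fun k => ⟨g * k * g⁻¹, hg k k.2⟩
  have hf : Function.Injective f := by
    intro x y hxy
    have h1 : g * (x : H) * g⁻¹ = g * y * g⁻¹ := congrArg Subtype.val hxy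
    exact Subtype.ext (mul_left_cancel (mul_right_cancel h1))
  refine Fintype.prod_bijective f (Finite.injective_iff_bijective.1 hf) _ _ fun x => ?_
  simp [f, mul_smul]

theorem pow_odd (h2 : ∀ n : N, n * n = 1) (n : N) {k : ℕ} (hk : Odd k) : n ^ k = n := by
  obtain ⟨m, rfl⟩ := hk
  rw [pow_succ, pow_mul, pow_two, h2, one_pow, one_mul]

theorem nm_fix (h2 : ∀ n : N, n * n = 1) {K : Subgroup H} (hK : Odd (Nat.card K)) {n : N} (h : ∀ k ∈ K, k • n = n) :
    nm K n = n := by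
  letI := Fintype.ofFinite K
  rw [nm_apply]
  have h1 : (fun k : K => (k : H) • n) = fun _ => n := funext fun k => h k k.2
  rw [h1, Finset.prod_const, Finset.card_univ, ← Nat.card_eq_fintype_card]
  exact pow_odd h2 n hK

theorem nm_nm (h2 : ∀ n : N, n * n = 1) {K L : Subgroup H} (hL : Odd (Nat.card L)) (hLK : L ≤ K) (n : N) :
    nm K (nm L n) = nm K n := by
  letI := Fintype.ofFinite L
  rw [nm_apply L, map_prod]
  have h1 : (fun k : L => nm K ((k : H) • n)) = fun _ => nm K n := funext fun k => nm_smul (hLK k.2) n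
  rw [h1, Finset.prod_const, Finset.card_univ, ← Nat.card_eq_fintype_card]
  exact pow_odd h2 _ hL

theorem inv_eq (h2 : ∀ n : N, n * n = 1) (n : N) : n⁻¹ = n := inv_eq_of_mul_eq_one_left (h2 n)

/-- `c` fixes `n`, if it fixes all `n (b n)`, `b ∈ E`, and `nm E n = 1`. -/
theorem fix_of_nm (h2 : ∀ n : N, n * n = 1) {E : Subgroup H} (hE : Odd (Nat.card E)) {n : N} (hn : nm E n = 1) {c : H}
    (h : ∀ b ∈ E, c • (n * b • n) = n * b • n) : c • n = n := by
  letI := Fintype.ofFinite E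
  have h1 : n = ∏ b : E, (n * (b : H) • n) := by
    rw [Finset.prod_mul_distrib, ← nm_apply, hn, mul_one, Finset.prod_const, Finset.card_univ,
      ← Nat.card_eq_fintype_card, pow_odd h2 n hE]
  rw [h1, Finset.smul_prod']
  exact Finset.prod_congr rfl fun b _ => h b b.2

theorem mem_of_sq {K : Subgroup H} {a : H} (ha : Odd (orderOf a)) (h : a * a ∈ K) : a ∈ K := by
  obtain ⟨m, hm⟩ := ha
  have h1 : a = (a * a) ^ (m + 1) := by
    rw [← pow_two, ← pow_mul]
    have h3 : 2 * (m + 1) = orderOf a + 1 := by rw [hm]; ring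
    rw [h3, pow_succ, pow_orderOf_eq_one, one_mul]
  rw [h1]
  exact pow_mem h _

theorem fix_of_sq {a : H} (ha : Odd (orderOf a)) {n : N} (h : (a * a) • n = n) : a • n = n := by
  have h1 : a ∈ MulAction.stabilizer H n := mem_of_sq ha (MulAction.mem_stabilizer_iff.2 h)
  exact MulAction.mem_stabilizer_iff.1 h1

theorem odd_order {A : Subgroup H} (hA : Odd (Nat.card A)) {a : H} (ha : a ∈ A) : Odd (orderOf a) := by
  refine Odd.of_dvd_nat hA ?_
  have h1 := orderOf_dvd_natCard (⟨a, ha⟩ : A)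
  rwa [Subgroup.orderOf_mk] at h1

theorem odd_le {A K : Subgroup H} (hA : Odd (Nat.card A)) (hK : K ≤ A) : Odd (Nat.card K) :=
  Odd.of_dvd_nat hA (Subgroup.card_dvd_of_le hK)

end nm

/-! ### Quadratic pairs -/

section qp

variable (N : Type*) {H : Type*} [Group H] [CommGroup N] [MulDistribMulAction H N]

/-- A quadratic pair of involutions. -/
structure QP (s t : H) : Prop where
  ss : s * s = 1
  tt : t * t = 1
  st : s * t = t * s
  q : ∀ n : N, n * s • n * t • n * s • t • n = 1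

variable {N} {s t : H}

theorem QP.swap (h : QP N s t) : QP N t s where
  ss := h.tt
  tt := h.ss
  st := h.st.symm
  q n := by
    have h1 := h.q n
    rw [← mul_smul, h.st, mul_smul] at h1
    rw [← h1]
    exact congrArg (· * t • s • n) (mul_right_comm _ _ _)

theorem QP.third (h : QP N s t) : QP N (s * t) s where
  ss := by rw [mul_assoc, ← mul_assoc t, ← h.st, mul_assoc s t t, h.tt, mul_one, h.ss]
  tt := h.ss
  st := by rw [h.st, mul_assoc, h.ss, mul_one, ← mul_assoc s t s, h.st, mul_assoc, h.ss, mul_one]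
  q n := by
    have h1 := h.q n
    have h2 : (s * t) • s • n = t • n := by
      rw [← mul_smul, h.st, mul_assoc, h.ss, mul_one]
    rw [h2, mul_smul, ← h1]
    rw [mul_right_comm n, mul_assoc (n * s • n), mul_comm (s • t • n), ← mul_assoc]

theorem QP.conj (h : QP N s t) (g : H) : QP N (g * s * g⁻¹) (g * t * g⁻¹) where
  ss := by
    have e : g * s * g⁻¹ * (g * s * g⁻¹) = g * (s * s) * g⁻¹ := by group
    rw [e, h.ss]; group
  tt := by
    have e : g * t * g⁻¹ * (g * t * g⁻¹) = g * (t * t) * g⁻¹ := by group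
    rw [e, h.tt]; group
  st := by
    have e : g * s * g⁻¹ * (g * t * g⁻¹) = g * (s * t) * g⁻¹ := by group
    rw [e, h.st]; group
  q n := by
    have h1 := h.q (g⁻¹ • n)
    have h2 := congrArg (g • ·) h1
    simp only [smul_mul', smul_one] at h2
    rw [smul_inv_smul] at h2
    rw [← h2]
    simp only [mul_smul]
    rw [inv_smul_smul]

theorem QP.s_inv (h : QP N s t) : s⁻¹ = s := inv_eq_of_mul_eq_one_left h.ss

theorem QP.t_inv (h : QP N s t) : t⁻¹ = t := inv_eq_of_mul_eq_one_left h.tt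

theorem two_aux (h2 : ∀ n : N, n * n = 1) {x X y Y : N} (h : y * Y = x * X) : X * Y = x * y := by
  calc X * Y = X * Y * (y * y) := by rw [h2, mul_one]
    _ = X * y * (y * Y) := by rw [mul_mul_mul_comm, mul_comm Y y]
    _ = X * y * (x * X) := by rw [h]
    _ = X * X * (x * y) := by rw [mul_comm x X, mul_mul_mul_comm, mul_comm y x]
    _ = x * y := by rw [h2, one_mul]

theorem fix_sq [Finite H] {a : H} (ha : Odd (orderOf a)) {n : N} (h : (a * a) • n = n) : a • n = n := fix_of_sq ha h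

/-- `s` fixes `n (b n)` -/
theorem QP.fix_s [Finite H] (h : QP N s t) (h2 : ∀ n : N, n * n = 1) {b : H} (hb : Odd (orderOf b))
    (hsb : s * b = b * s) (htb : t * b * t⁻¹ = b⁻¹) (n : N) : s • (n * b • n) = n * b • n := by
  -- `t` fixes `n (s n)`
  have ht : ∀ n : N, t • (n * s • n) = n * s • n := by
    intro n
    have h1 := h.q n
    have h3 : t • (n * s • n) = t • n * s • t • n := by
      rw [smul_mul', ← mul_smul, ← h.st, mul_smul]
    rw [h3]
    rw [mul_assoc] at h1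
    rw [eq_inv_of_mul_eq_one_right h1, inv_eq h2]
  have h3 : (b * b) • (n * s • n) = n * s • n := by
    have h4 := ht (b • n)
    have e1 : b • n * s • b • n = b • (n * s • n) := by
      rw [smul_mul', ← mul_smul, hsb, mul_smul]
    rw [e1, ← mul_smul] at h4
    have e2 : t * b = b⁻¹ * t := by rw [← htb]; group
    rw [e2, mul_smul, ht n] at h4
    rw [mul_smul, ← h4, smul_inv_smul]
  have h4 := fix_sq hb h3
  have h5 : b • n * s • b • n = n * s • n := by
    rw [← h4, smul_mul', ← mul_smul b s, ← hsb, mul_smul]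
  rw [smul_mul']
  exact two_aux h2 h5

/-- **`c` fixes `n (b n)`** -/
theorem QP.fix [Finite H] (h : QP N s t) (h2 : ∀ n : N, n * n = 1) {b c : H} (hb : Odd (orderOf b))
    (hc : Odd (orderOf c)) (hsb : s * b * s⁻¹ = b) (htb : t * b * t⁻¹ = b⁻¹) (hsc : s * c * s⁻¹ = c⁻¹)
    (hbc : b * c = c * b) (n : N) : c • (n * b • n) = n * b • n := by
  have hsb' : s * b = b * s := by rw [← mul_inv_eq_iff_eq_mul]; exact hsb
  have h3 := h.fix_s h2 hb hsb' htb
  have h4 := h3 (c • n)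
  have e1 : c • n * b • c • n = c • (n * b • n) := by
    rw [smul_mul', ← mul_smul b, hbc, mul_smul]
  rw [e1, ← mul_smul] at h4
  have e2 : s * c = c⁻¹ * s := by rw [← hsc]; group
  rw [e2, mul_smul, h3 n] at h4
  refine fix_sq hc ?_
  rw [mul_smul, ← h4, smul_inv_smul]

end qp

/-! ### Maximal subgroups with nontrivial norm -/

section mx

variable {H N : Type*} [Group H] [Finite H] [CommGroup N] [MulDistribMulAction H N]

/-- an abelian normal subgroup of odd order -/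
structure Ab (A : Subgroup H) : Prop where
  nor : ∀ g : H, ∀ a ∈ A, g * a * g⁻¹ ∈ A
  comm : ∀ a ∈ A, ∀ b ∈ A, a * b = b * a
  odd : Odd (Nat.card A)

/-- `K ≤ A` is maximal with `nm K v ≠ 1`. -/
structure Mx (A : Subgroup H) (v : N) (K : Subgroup H) : Prop where
  le : K ≤ A
  ne : nm K v ≠ 1
  mx : ∀ L : Subgroup H, L ≤ A → K ≤ L → nm L v ≠ 1 → L ≤ K

theorem exists_mx {A : Subgroup H} {v : N} (hv : v ≠ 1) : ∃ K, Mx A v K := by
  classical
  have hne : {K : Subgroup H | K ≤ A ∧ nm K v ≠ 1}.Nonempty := by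
    refine ⟨⊥, bot_le, ?_⟩
    intro h
    apply hv
    rw [← h, nm_apply]
    letI := Fintype.ofFinite (⊥ : Subgroup H)
    have h1 : (fun k : (⊥ : Subgroup H) => (k : H) • v) = fun _ => v := by
      funext k
      have h2 : (k : H) = 1 := mem_bot.1 k.2
      rw [h2, one_smul]
    rw [h1, Finset.prod_const, Finset.card_univ, ← Nat.card_eq_fintype_card, Nat.card_unique, pow_one]
  obtain ⟨K, hK, hmax⟩ := Set.exists_max_image _ (fun K : Subgroup H => Nat.card K) (Set.toFinite _) hne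
  refine ⟨K, hK.1, hK.2, fun L hLA hKL hL => ?_⟩
  have h1 := hmax L ⟨hLA, hL⟩
  exact (Subgroup.eq_of_le_of_card_ge hKL h1).ge

variable {A K : Subgroup H} {v : N} (hA : Ab A) (h2 : ∀ n : N, n * n = 1) (m : Mx A v K)
include hA h2 m

/-- the stabiliser of `w = nm K v` in `A` is `K` -/
theorem Mx.stab {a : H} (ha : a ∈ A) (h : a • nm K v = nm K v) : a ∈ K := by
  have hL : K ⊔ zpowers a ≤ A := sup_le m.le ((zpowers_le).2 ha)
  have h3 : K ⊔ zpowers a ≤ MulAction.stabilizer H (nm K v) := by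
    refine sup_le (fun k hk => ?_) ((zpowers_le).2 ?_)
    · exact MulAction.mem_stabilizer_iff.2 (smul_nm_self hk v)
    · exact MulAction.mem_stabilizer_iff.2 h
  have h4 : nm (K ⊔ zpowers a) v = nm K v := by
    rw [← nm_nm h2 (odd_le hA.odd m.le) (le_sup_left : K ≤ K ⊔ zpowers a)]
    exact nm_fix h2 (odd_le hA.odd hL) fun k hk => MulAction.mem_stabilizer_iff.1 (h3 hk)
  exact m.mx _ hL le_sup_left (by rw [h4]; exact m.ne) (mem_sup_right (mem_zpowers a))

/-- two of three -/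
theorem Mx.two {E E' : Subgroup H} (hE : E ≤ A) (hE' : E' ≤ A)
    (h : ∀ b ∈ E, ∀ c ∈ E', ∀ n : N, c • (n * b • n) = n * b • n) : E ≤ K ∨ E' ≤ K := by
  by_contra hcon
  push Not at hcon
  have hnm : nm E (nm K v) = 1 := by
    by_contra hne
    apply hcon.1
    have hL : K ⊔ E ≤ A := sup_le m.le hE
    have h3 : K ⊔ E ≤ MulAction.stabilizer H (nm E (nm K v)) := by
      refine sup_le (fun k hk => ?_) fun e he => ?_
      · rw [MulAction.mem_stabilizer_iff, smul_nm (fun e he => ?_), smul_nm_self hk]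
        have e1 : k * e * k⁻¹ = e := by rw [hA.comm k (m.le hk) e (hE he), mul_inv_cancel_right]
        rwa [e1]
      · exact MulAction.mem_stabilizer_iff.2 (smul_nm_self he _)
    have h4 : nm (K ⊔ E) v = nm E (nm K v) := by
      rw [← nm_nm h2 (odd_le hA.odd m.le) (le_sup_left : K ≤ K ⊔ E),
        ← nm_nm h2 (odd_le hA.odd hE) (le_sup_right : E ≤ K ⊔ E)]
      exact nm_fix h2 (odd_le hA.odd hL) fun k hk => MulAction.mem_stabilizer_iff.1 (h3 hk)
    exact le_sup_right.trans (m.mx _ hL le_sup_left (by rw [h4]; exact hne))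
  apply hcon.2
  intro c hc
  exact m.stab hA h2 (hE' hc) (fix_of_nm h2 (odd_le hA.odd hE) hnm fun b hb => h b hb c hc _)

end mx

end Cfsg.Agent.Omega.NO3S.WY.OddKer

end

section


/-!
# The odd kernel lemma: subgroups of `Perm (Fin 5)`

`alt_le` : a subgroup containing the fours group `{1, (12)(34), (13)(24), (14)(23)}` and a conjugate `γ u γ⁻¹`,
`γ 0 ≠ 0`, of one of its involutions contains the alternating group.
-/

set_option autoImplicit false

namespace Cfsg.Agent.Omega.NO3S.WY.OddKer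

open Equiv Equiv.Perm

/-- `(1 2)(3 4)` -/
def sb : Perm (Fin 5) := swap 1 2 * swap 3 4

/-- `(1 3)(2 4)` -/
def tb : Perm (Fin 5) := swap 1 3 * swap 2 4

/-- the three involutions of the fours group -/
def vv : Fin 3 → Perm (Fin 5) := ![sb, tb, sb * tb]

theorem vv_apply (i : Fin 3) : vv i * vv i = 1 ∧ vv i 0 = 0 ∧ ∀ x, x ≠ 0 → vv i x ≠ x := by
  revert i
  decide +kernel

theorem p1_aux : ∀ d : Perm (Fin 5), (d * d = 1 ∧ d 0 ≠ 0 ∧ ∃ p, p ≠ 0 ∧ d p = p ∧ ∀ x, x ≠ p → d x ≠ x) →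
    ∃ w : Fin 3, ∃ x y z : Fin 5, x ≠ y ∧ x ≠ z ∧ y ≠ z ∧ d * vv w = swap x y * swap x z := by
  decide +kernel

theorem trans_aux : ∀ x y : Fin 5, x ≠ 0 → y ≠ 0 → x ≠ y → ∃ w : Fin 3, vv w x = y := by
  decide +kernel

theorem vv_mem {X : Subgroup (Perm (Fin 5))} (hs : sb ∈ X) (ht : tb ∈ X) (i : Fin 3) : vv i ∈ X := by
  fin_cases i
  · exact hs
  · exact ht
  · exact X.mul_mem hs ht

theorem alt_le {X : Subgroup (Perm (Fin 5))} (hs : sb ∈ X) (ht : tb ∈ X) {γ : Perm (Fin 5)} (hγ : γ 0 ≠ 0) (i : Fin 3)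
    (hd : γ * vv i * γ⁻¹ ∈ X) : alternatingGroup (Fin 5) ≤ X := by
  obtain ⟨v1, v2, v3⟩ := vv_apply i
  set d := γ * vv i * γ⁻¹ with hdd
  have e1 : d * d = 1 := by
    have : d * d = γ * (vv i * vv i) * γ⁻¹ := by rw [hdd]; group
    rw [this, v1]; group
  have e2 : d (γ 0) = γ 0 := by simp [hdd, v2]
  have e3 : ∀ x, x ≠ γ 0 → d x ≠ x := by
    intro x hx h
    have h1 : vv i (γ⁻¹ x) = γ⁻¹ x := by
      have : γ (vv i (γ⁻¹ x)) = x := h
      rw [Perm.eq_inv_iff_eq, this]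
    refine v3 _ ?_ h1
    intro h2
    apply hx
    rw [← h2]; simp
  have e4 : d 0 ≠ 0 := e3 0 (Ne.symm hγ)
  obtain ⟨w, x, y, z, h1, h2, h3, h4⟩ := p1_aux d ⟨e1, e4, γ 0, hγ, e2, e3⟩
  have hc : d * vv w ∈ X := X.mul_mem hd (vv_mem hs ht w)
  have hc3 : (d * vv w).IsThreeCycle := by
    rw [h4]; exact isThreeCycle_swap_mul_swap_same h1 h2 h3
  have htr : MulAction.IsPretransitive X (Fin 5) := by
    rw [MulAction.isPretransitive_iff_base (0 : Fin 5)]
    intro x
    by_cases hx : x = 0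
    · exact ⟨1, by rw [one_smul, hx]⟩
    by_cases hx' : d 0 = x
    · exact ⟨⟨d, hd⟩, hx'⟩
    obtain ⟨w, hw⟩ := trans_aux (d 0) x e4 hx hx'
    exact ⟨⟨vv w * d, X.mul_mem (vv_mem hs ht w) hd⟩, hw⟩
  have hpr : MulAction.IsPreprimitive X (Fin 5) := by
    apply MulAction.IsPreprimitive.of_prime_card
    rw [Nat.card_eq_fintype_card, Fintype.card_fin]
    norm_num
  exact alternatingGroup_le_of_isPreprimitive_of_isThreeCycle_mem hpr hc3 hc

end Cfsg.Agent.Omega.NO3S.WY.OddKer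

end

section


/-!
# The odd kernel lemma: step 1 (abelian normal subgroups of the kernel fix the vector)
-/

set_option autoImplicit false
set_option linter.unusedSectionVars false

namespace Cfsg.Agent.Omega.NO3S.WY.OddKer

open Subgroup

section gam

variable {H : Type*} [Group H]

/-- `g` centralises `A/K` -/
def Cen (A K : Subgroup H) (g : H) : Prop := ∀ a ∈ A, g * a * g⁻¹ * a⁻¹ ∈ K

/-- `g` inverts `A/K` -/
def Inv (A K : Subgroup H) (g : H) : Prop := ∀ a ∈ A, g * a * g⁻¹ * a ∈ K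

variable [Finite H] {A K : Subgroup H} (hA : Ab A) (hK : K ≤ A)

theorem Cen.norm (hK : K ≤ A) {g : H} (h : Cen A K g) {k : H} (hk : k ∈ K) : g * k * g⁻¹ ∈ K := by
  have h1 := K.mul_mem (h k (hK hk)) hk
  rwa [inv_mul_cancel_right] at h1

theorem Inv.norm (hK : K ≤ A) {g : H} (h : Inv A K g) {k : H} (hk : k ∈ K) : g * k * g⁻¹ ∈ K := by
  have h1 := K.mul_mem (h k (hK hk)) (K.inv_mem hk)
  rwa [mul_inv_cancel_right] at h1

theorem Cen.one : Cen A K 1 := fun a _ => by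
  rw [one_mul, inv_one, mul_one, mul_inv_cancel]; exact K.one_mem

theorem Cen.mul (hK : K ≤ A) {g h : H} (hg : Cen A K g) (hh : Cen A K h) : Cen A K (g * h) := by
  intro a ha
  have e : g * h * a * (g * h)⁻¹ * a⁻¹ = g * (h * a * h⁻¹ * a⁻¹) * g⁻¹ * (g * a * g⁻¹ * a⁻¹) := by group
  rw [e]
  exact K.mul_mem (hg.norm hK (hh a ha)) (hg a ha)

include hA in
theorem Cen.inv {g : H} (hg : Cen A K g) : Cen A K g⁻¹ := by
  intro a ha
  have hb : g⁻¹ * a * g⁻¹⁻¹ ∈ A := hA.nor g⁻¹ a ha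
  have h1 := K.inv_mem (hg _ hb)
  have e : (g * (g⁻¹ * a * g⁻¹⁻¹) * g⁻¹ * (g⁻¹ * a * g⁻¹⁻¹)⁻¹)⁻¹ = g⁻¹ * a * g⁻¹⁻¹ * a⁻¹ := by group
  rwa [e] at h1

theorem Cen.mul_inv (hK : K ≤ A) {g h : H} (hg : Cen A K g) (hh : Inv A K h) : Inv A K (g * h) := by
  intro a ha
  have e : g * h * a * (g * h)⁻¹ * a = g * (h * a * h⁻¹ * a) * g⁻¹ * (g * a⁻¹ * g⁻¹ * a⁻¹⁻¹) := by group
  rw [e]
  exact K.mul_mem (hg.norm hK (hh a ha)) (hg _ (A.inv_mem ha))

theorem Inv.mul_cen (hK : K ≤ A) {g h : H} (hg : Inv A K g) (hh : Cen A K h) : Inv A K (g * h) := by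
  intro a ha
  have e : g * h * a * (g * h)⁻¹ * a = g * (h * a * h⁻¹ * a⁻¹) * g⁻¹ * (g * a * g⁻¹ * a) := by group
  rw [e]
  exact K.mul_mem (hg.norm hK (hh a ha)) (hg _ ha)

theorem Inv.mul_inv (hK : K ≤ A) {g h : H} (hg : Inv A K g) (hh : Inv A K h) : Cen A K (g * h) := by
  intro a ha
  have e : g * h * a * (g * h)⁻¹ * a⁻¹ = g * (h * a * h⁻¹ * a) * g⁻¹ * (g * a⁻¹ * g⁻¹ * a⁻¹) := by group
  rw [e]
  exact K.mul_mem (hg.norm hK (hh a ha)) (hg _ (A.inv_mem ha))

include hA in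
theorem Inv.inv {g : H} (hg : Inv A K g) : Inv A K g⁻¹ := by
  intro a ha
  have hb : g⁻¹ * a * g⁻¹⁻¹ ∈ A := hA.nor g⁻¹ a ha
  have h1 := hg _ hb
  have e : g * (g⁻¹ * a * g⁻¹⁻¹) * g⁻¹ = a := by group
  rw [e] at h1
  rwa [hA.comm _ hb a ha]

/-- the centraliser of `A/K` -/
def G1 : Subgroup H where
  carrier := {g | Cen A K g}
  one_mem' := Cen.one
  mul_mem' := fun hg hh => Cen.mul hK hg hh
  inv_mem' := fun hg => Cen.inv hA hg

/-- the group of all elements centralising or inverting `A/K` -/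
def G0 : Subgroup H where
  carrier := {g | Cen A K g ∨ Inv A K g}
  one_mem' := Or.inl Cen.one
  mul_mem' := by
    rintro g h (hg | hg) (hh | hh)
    · exact Or.inl (hg.mul hK hh)
    · exact Or.inr (hg.mul_inv hK hh)
    · exact Or.inr (hg.mul_cen hK hh)
    · exact Or.inl (hg.mul_inv hK hh)
  inv_mem' := by
    rintro g (hg | hg)
    · exact Or.inl (hg.inv hA)
    · exact Or.inr (hg.inv hA)

theorem mem_G1 {g : H} : g ∈ G1 hA hK ↔ Cen A K g := Iff.rfl

theorem mem_G0 {g : H} : g ∈ G0 hA hK ↔ Cen A K g ∨ Inv A K g := Iff.rfl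

theorem sq_mem_G1 {g : H} (hg : g ∈ G0 hA hK) : g * g ∈ G1 hA hK := by
  rcases hg with hg | hg
  · exact hg.mul hK hg
  · exact hg.mul_inv hK hg

/-- the part of `A` centralised by `s` and inverted by `t` -/
def EE (s t : H) : Subgroup H where
  carrier := {a | a ∈ A ∧ s * a * s⁻¹ = a ∧ t * a * t⁻¹ = a⁻¹}
  one_mem' := ⟨A.one_mem, by group, by group⟩
  mul_mem' := by
    rintro a b ⟨ha, ha1, ha2⟩ ⟨hb, hb1, hb2⟩
    refine ⟨A.mul_mem ha hb, ?_, ?_⟩
    · have e : s * (a * b) * s⁻¹ = s * a * s⁻¹ * (s * b * s⁻¹) := by group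
      rw [e, ha1, hb1]
    · have e : t * (a * b) * t⁻¹ = t * a * t⁻¹ * (t * b * t⁻¹) := by group
      rw [e, ha2, hb2, hA.comm a ha b hb, mul_inv_rev]
  inv_mem' := by
    rintro a ⟨ha, ha1, ha2⟩
    refine ⟨A.inv_mem ha, ?_, ?_⟩
    · have e : s * a⁻¹ * s⁻¹ = (s * a * s⁻¹)⁻¹ := by group
      rw [e, ha1]
    · have e : t * a⁻¹ * t⁻¹ = (t * a * t⁻¹)⁻¹ := by group
      rw [e, ha2]

theorem mem_EE {s t a : H} : a ∈ EE hA s t ↔ a ∈ A ∧ s * a * s⁻¹ = a ∧ t * a * t⁻¹ = a⁻¹ := Iff.rfl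

theorem EE_le (s t : H) : EE hA s t ≤ A := fun _ h => h.1

end gam

section three

variable {H N : Type*} [Group H] [Finite H] [CommGroup N] [MulDistribMulAction H N]
variable {A K : Subgroup H} {v : N} (hA : Ab A) (h2 : ∀ n : N, n * n = 1) (m : Mx A v K)
variable {s t : H} (hq : QP N s t)
include hq h2 m

theorem two12 : EE hA s t ≤ K ∨ EE hA t s ≤ K := by
  refine m.two hA h2 (EE_le hA s t) (EE_le hA t s) fun b hb c hc n => ?_
  obtain ⟨hb0, hb1, hb2⟩ := hb
  obtain ⟨hc0, hc1, hc2⟩ := hc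
  exact hq.fix h2 (odd_order hA.odd hb0) (odd_order hA.odd hc0) hb1 hb2 hc2 (hA.comm b hb0 c hc0) n

theorem two13 : EE hA s t ≤ K ∨ EE hA (s * t) s ≤ K := by
  refine m.two hA h2 (EE_le hA s t) (EE_le hA (s * t) s) fun b hb c hc n => ?_
  obtain ⟨hb0, hb1, hb2⟩ := hb
  obtain ⟨hc0, hc1, hc2⟩ := hc
  exact hq.fix h2 (odd_order hA.odd hb0) (odd_order hA.odd hc0) hb1 hb2 hc2 (hA.comm b hb0 c hc0) n

theorem two23 : EE hA t s ≤ K ∨ EE hA (s * t) s ≤ K := by
  refine m.two hA h2 (EE_le hA t s) (EE_le hA (s * t) s) fun b hb c hc n => ?_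
  obtain ⟨hb0, hb1, hb2⟩ := hb
  obtain ⟨hc0, hc1, hc2⟩ := hc
  refine hq.swap.fix h2 (odd_order hA.odd hb0) (odd_order hA.odd hc0) hb1 hb2 ?_ (hA.comm b hb0 c hc0) n
  have e1 : t = s * (s * t) := by rw [← mul_assoc, hq.ss, one_mul]
  have e2 : t * c * t⁻¹ = s * (s * t * c * (s * t)⁻¹) * s⁻¹ := by
    conv_lhs => rw [e1]
    group
  rw [e2, hc1, hc2]

omit h2 m hq
include hA

/-- `s` centralises `A/K` as soon as `K` contains everything inverted by `s` and (fixed or inverted) by `t`. -/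
theorem cent_of {s t : H} (ss : s * s = 1) (tt : t * t = 1) (st : s * t = t * s)
    (h12 : ∀ a ∈ A, s * a * s⁻¹ = a⁻¹ → t * a * t⁻¹ = a → a ∈ K)
    (h13 : ∀ a ∈ A, s * a * s⁻¹ = a⁻¹ → t * a * t⁻¹ = a⁻¹ → a ∈ K) : Cen A K s := by
  have si : s⁻¹ = s := inv_eq_of_mul_eq_one_left ss
  have ti : t⁻¹ = t := inv_eq_of_mul_eq_one_left tt
  intro a ha
  set y := s * a * s⁻¹ * a⁻¹ with hy
  have hyA : y ∈ A := A.mul_mem (hA.nor s a ha) (A.inv_mem ha)
  have hsy : s * y * s⁻¹ = y⁻¹ := by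
    have e : s * y * s⁻¹ = (s * s) * a * s⁻¹ * a⁻¹ * s⁻¹ := by rw [hy]; group
    rw [e, ss, one_mul, hy]
    have e2 : (s * a * s⁻¹ * a⁻¹)⁻¹ = a * s * a⁻¹ * s⁻¹ := by group
    rw [e2, si]
  set y' := t * y * t⁻¹ with hy'
  have hy'A : y' ∈ A := hA.nor t y hyA
  have hsy' : s * y' * s⁻¹ = y'⁻¹ := by
    have e : s * y' * s⁻¹ = (s * t) * y * (s * t)⁻¹ := by rw [hy']; group
    have e2 : (t * s) * y * (t * s)⁻¹ = t * (s * y * s⁻¹) * t⁻¹ := by group
    rw [e, st, e2, hsy, hy']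
    group
  have hty' : t * y' * t⁻¹ = y := by
    have e : t * y' * t⁻¹ = (t * t) * y * (t * t)⁻¹ := by rw [hy']; group
    rw [e, tt]
    group
  have hc := hA.comm y hyA y' hy'A
  have hu : y * y' ∈ K := by
    apply h12 _ (A.mul_mem hyA hy'A)
    · have e : s * (y * y') * s⁻¹ = s * y * s⁻¹ * (s * y' * s⁻¹) := by group
      rw [e, hsy, hsy', hc]
      exact (mul_inv_rev y' y).symm
    · have e : t * (y * y') * t⁻¹ = t * y * t⁻¹ * (t * y' * t⁻¹) := by group
      rw [e, hty', ← hy', ← hc]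
  have hw : y * y'⁻¹ ∈ K := by
    apply h13 _ (A.mul_mem hyA (A.inv_mem hy'A))
    · have e : s * (y * y'⁻¹) * s⁻¹ = s * y * s⁻¹ * (s * y' * s⁻¹)⁻¹ := by group
      rw [e, hsy, hsy']
      refine Eq.trans ?_ (mul_inv_rev y y'⁻¹).symm
      exact (hA.comm _ (A.inv_mem (A.inv_mem hy'A)) _ (A.inv_mem hyA)).symm
    · have e : t * (y * y'⁻¹) * t⁻¹ = t * y * t⁻¹ * (t * y' * t⁻¹)⁻¹ := by group
      rw [e, hty', ← hy']
      refine Eq.trans ?_ (mul_inv_rev y y'⁻¹).symm
      rw [inv_inv]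
  apply mem_of_sq (odd_order hA.odd hyA)
  have h1 := K.mul_mem hu hw
  have e : y * y' * (y * y'⁻¹) = y * y := by rw [hc]; rw [mul_assoc, ← mul_assoc y y, hA.comm (y * y) (A.mul_mem hyA hyA) y'⁻¹ (A.inv_mem hy'A)]; group
  rwa [e] at h1

theorem inv_of {s t : H} (ss : s * s = 1) (tt : t * t = 1) (st : s * t = t * s)
    (h0 : ∀ a ∈ A, s * a * s⁻¹ = a → t * a * t⁻¹ = a → a ∈ K) (hs : Cen A K s) : Inv A K t := by
  have si : s⁻¹ = s := inv_eq_of_mul_eq_one_left ss
  have ti : t⁻¹ = t := inv_eq_of_mul_eq_one_left tt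
  intro a ha
  have hta := hA.nor t a ha
  set y := t * a * t⁻¹ * a with hy
  have hyA : y ∈ A := A.mul_mem hta ha
  have hty : t * y * t⁻¹ = y := by
    have e : t * y * t⁻¹ = (t * t) * a * (t * t)⁻¹ * (t * a * t⁻¹) := by rw [hy]; group
    rw [e, tt, hy, one_mul, inv_one, mul_one]
    exact hA.comm a ha _ hta
  have hsyA := hA.nor s y hyA
  have hc := hA.comm y hyA _ hsyA
  have hu : y * (s * y * s⁻¹) ∈ K := by
    apply h0 _ (A.mul_mem hyA hsyA)
    · have e : s * (y * (s * y * s⁻¹)) * s⁻¹ = s * y * s⁻¹ * ((s * s) * y * (s * s)⁻¹) := by group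
      rw [e, ss, one_mul, inv_one, mul_one, ← hc]
    · have e : t * (y * (s * y * s⁻¹)) * t⁻¹ = t * y * t⁻¹ * ((t * s) * y * (t * s)⁻¹) := by group
      have e2 : (s * t) * y * (s * t)⁻¹ = s * (t * y * t⁻¹) * s⁻¹ := by group
      rw [e, ← st, e2, hty]
  have hw : y * (s * y * s⁻¹)⁻¹ ∈ K := by
    have h1 := K.inv_mem (hs y hyA)
    rwa [mul_inv_rev, inv_inv] at h1
  apply mem_of_sq (odd_order hA.odd hyA)
  have h1 := K.mul_mem hu hw
  have e : y * (s * y * s⁻¹) * (y * (s * y * s⁻¹)⁻¹) = y * y := by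
    rw [hc, mul_assoc, ← mul_assoc y y, hA.comm (y * y) (A.mul_mem hyA hyA) _ (A.inv_mem hsyA)]; group
  rwa [e] at h1

include hq h2 m

/-- one of the three involutions centralises `A/K` -/
theorem one_cen : Cen A K s ∨ Cen A K t ∨ Cen A K (s * t) := by
  have ss := hq.ss
  have tt := hq.tt
  have st := hq.st
  have h1 := two12 hA h2 m hq
  have h2' := two13 hA h2 m hq
  have h3 := two23 hA h2 m hq
  -- membership in the third part
  have m3 : ∀ a ∈ A, s * a * s⁻¹ = a⁻¹ → t * a * t⁻¹ = a⁻¹ → a ∈ EE hA (s * t) s := by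
    intro a ha ha1 ha2
    refine ⟨ha, ?_, ha1⟩
    have e : s * t * a * (s * t)⁻¹ = s * (t * a * t⁻¹) * s⁻¹ := by group
    have e2 : s * a⁻¹ * s⁻¹ = (s * a * s⁻¹)⁻¹ := by group
    rw [e, ha2, e2, ha1, inv_inv]
  have c1 : EE hA t s ≤ K → EE hA (s * t) s ≤ K → Cen A K s := fun k2 k3 =>
    cent_of hA ss tt st (fun a ha ha1 ha2 => k2 ⟨ha, ha2, ha1⟩) fun a ha ha1 ha2 => k3 (m3 a ha ha1 ha2)
  have c2 : EE hA s t ≤ K → EE hA (s * t) s ≤ K → Cen A K t := fun k1 k3 =>
    cent_of hA tt ss st.symm (fun a ha ha1 ha2 => k1 ⟨ha, ha2, ha1⟩) fun a ha ha1 ha2 => k3 (m3 a ha ha2 ha1)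
  have c3 : EE hA s t ≤ K → EE hA t s ≤ K → Cen A K (s * t) := fun k1 k2 => by
    have q3 := hq.third
    refine cent_of hA q3.ss q3.tt q3.st (fun a ha ha1 ha2 => ?_) fun a ha ha1 ha2 => ?_
    · -- `s` fixes, `st` inverts: `t` inverts
      refine k1 ⟨ha, ha2, ?_⟩
      have e : t * a * t⁻¹ = s⁻¹ * (s * t * a * (s * t)⁻¹) * s := by group
      have e2 : s⁻¹ * a⁻¹ * s = (s⁻¹ * a * s)⁻¹ := by group
      have e3 : s⁻¹ * a * s = a := by
        conv_lhs => rw [← ha2]
        group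
      rw [e, ha1, e2, e3]
    · -- `s` inverts, `st` inverts: `t` fixes
      refine k2 ⟨ha, ?_, ha2⟩
      have e : t * a * t⁻¹ = s⁻¹ * (s * t * a * (s * t)⁻¹) * s := by group
      have e3 : s⁻¹ * a⁻¹ * s = a := by
        conv_lhs => rw [← ha2]
        group
      rw [e, ha1, e3]
  tauto

/-- with `C_A(s,t) ≤ K`: both are in `G0`, and one of them inverts -/
theorem own (h0 : ∀ a ∈ A, s * a * s⁻¹ = a → t * a * t⁻¹ = a → a ∈ K) :
    s ∈ G0 hA m.le ∧ t ∈ G0 hA m.le ∧ (Inv A K s ∨ Inv A K t) := by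
  have ss := hq.ss
  have tt := hq.tt
  have st := hq.st
  rcases one_cen hA h2 m hq with h | h | h
  · have h1 := inv_of hA ss tt st h0 h
    exact ⟨Or.inl h, Or.inr h1, Or.inr h1⟩
  · have h1 := inv_of hA tt ss st.symm (fun a ha ha1 ha2 => h0 a ha ha2 ha1) h
    exact ⟨Or.inr h1, Or.inl h, Or.inl h1⟩
  · have q3 := hq.third
    have h1 : Inv A K s := inv_of hA q3.ss q3.tt q3.st (fun a ha ha1 ha2 => h0 a ha ha2 (by
      have e : t * a * t⁻¹ = s⁻¹ * (s * t * a * (s * t)⁻¹) * s := by group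
      have e3 : s⁻¹ * a * s = a := by
        conv_lhs => rw [← ha2]
        group
      rw [e, ha1, e3])) h
    have h3 : Inv A K t := by
      have h4 := h1.mul_cen m.le h
      rwa [← mul_assoc, ss, one_mul] at h4
    exact ⟨Or.inr h1, Or.inr h3, Or.inl h1⟩

end three

/-! ### Step 1 -/

section step1

variable {H N : Type*} [Group H] [Finite H] [CommGroup N] [MulDistribMulAction H N]

theorem tri_sq {X Y : Subgroup (Equiv.Perm (Fin 5))} (hX : alternatingGroup (Fin 5) ≤ X) (h : ∀ x ∈ X, x * x ∈ Y) :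
    alternatingGroup (Fin 5) ≤ Y := by
  rw [← Equiv.Perm.closure_three_cycles_eq_alternating, closure_le]
  intro c hc
  have hc : c.IsThreeCycle := hc
  have h1 : c * c ∈ X := hX (hc.isThreeCycle_sq.mem_alternatingGroup)
  have h3 := h _ h1
  have h4 : c * c * (c * c) = c := by
    have h5 : c ^ 3 = 1 := by rw [← hc.orderOf, pow_orderOf_eq_one]
    have e : c * c * (c * c) = c ^ 3 * c := by simp only [pow_succ, pow_zero, one_mul, mul_assoc]
    rw [e, h5, one_mul]
  rwa [h4] at h3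

theorem step1 (h2 : ∀ n : N, n * n = 1) (π : H →* Equiv.Perm (Fin 5)) (hodd : Odd (Nat.card π.ker)) {s t : H}
    (hq : QP N s t) (hs : π s = sb) (ht : π t = tb) (hg : ∃ g, π g 0 ≠ 0) {v : N}
    (hv : ∀ g : H, g * s * g⁻¹ = s → g * t * g⁻¹ = t → g • v = v) {A : Subgroup H} (hA : Ab A) (hAk : A ≤ π.ker) :
    ∀ a ∈ A, a • v = v := by
  by_contra hcon
  push Not at hcon
  obtain ⟨a0, ha0, hne⟩ := hcon
  set v' := v * nm A v with hv'
  have hv1 : v' ≠ 1 := by
    intro h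
    have h3 : v = nm A v := by rw [← inv_eq h2 (nm A v)]; exact eq_inv_of_mul_eq_one_left h
    apply hne
    rw [h3]
    exact smul_nm_self ha0 v
  have hnm : nm A v' = 1 := by rw [hv', map_mul, nm_nm h2 hA.odd le_rfl, h2]
  obtain ⟨K, m⟩ := exists_mx (A := A) hv1
  have hvf : ∀ g : H, g * s * g⁻¹ = s → g * t * g⁻¹ = t → g • v' = v' := by
    intro g h3 h4
    rw [hv', smul_mul', smul_nm (hA.nor g), hv g h3 h4]
  have h0 : ∀ a ∈ A, s * a * s⁻¹ = a → t * a * t⁻¹ = a → a ∈ K := by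
    intro a ha h3 h4
    apply m.stab hA h2 ha
    rw [smul_nm (fun k hk => ?_), hvf a]
    · have h5 : s * a = a * s := by rw [← mul_inv_eq_iff_eq_mul]; exact h3
      rw [← h5]; group
    · have h5 : t * a = a * t := by rw [← mul_inv_eq_iff_eq_mul]; exact h4
      rw [← h5]; group
    · rw [hA.comm a ha k (m.le hk), mul_inv_cancel_right]; exact hk
  obtain ⟨hs0, ht0, hor⟩ := own hA h2 m hq h0
  obtain ⟨g, hg⟩ := hg
  have hX0 : alternatingGroup (Fin 5) ≤ (G0 hA m.le).map π := by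
    have h3 : sb ∈ (G0 hA m.le).map π := ⟨s, hs0, hs⟩
    have h4 : tb ∈ (G0 hA m.le).map π := ⟨t, ht0, ht⟩
    rcases one_cen hA h2 m (hq.conj g) with h | h | h
    · exact alt_le h3 h4 hg 0 ⟨_, Or.inl h, by simp [vv, hs]⟩
    · exact alt_le h3 h4 hg 1 ⟨_, Or.inl h, by simp [vv, ht]⟩
    · refine alt_le h3 h4 hg 2 ⟨_, Or.inl h, ?_⟩
      have e : g * s * g⁻¹ * (g * t * g⁻¹) = g * (s * t) * g⁻¹ := by group
      rw [e]
      simp [vv, hs, ht]
  have hX1 : alternatingGroup (Fin 5) ≤ (G1 hA m.le).map π := by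
    refine tri_sq hX0 ?_
    rintro _ ⟨x, hx, rfl⟩
    exact ⟨x * x, sq_mem_G1 hA m.le hx, by rw [map_mul]⟩
  -- an element of `G0` whose image is even is in `G1`
  have hkey : ∀ r ∈ G0 hA m.le, π r ∈ alternatingGroup (Fin 5) → r ∈ G1 hA m.le := by
    intro r hr hra
    obtain ⟨y, hy, hyr⟩ := hX1 hra
    have hz : y⁻¹ * r ∈ π.ker := by rw [MonoidHom.mem_ker, map_mul, map_inv, hyr, inv_mul_cancel]
    have hy0 : y ∈ G0 hA m.le := Or.inl hy
    have hz0 : y⁻¹ * r ∈ G0 hA m.le := mul_mem (inv_mem hy0) hr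
    have hz1 : y⁻¹ * r ∈ G1 hA m.le := mem_of_sq (odd_order hodd hz) (sq_mem_G1 hA m.le hz0)
    have h3 := mul_mem (show y ∈ G1 hA m.le from hy) hz1
    rwa [mul_inv_cancel_left] at h3
  have hfin : ∀ r : H, Inv A K r → Cen A K r → False := by
    intro r h3 h4
    have hAK : A ≤ K := by
      intro a ha
      apply mem_of_sq (odd_order hA.odd ha)
      have h5 := K.mul_mem (K.inv_mem (h4 a ha)) (h3 a ha)
      have e : (r * a * r⁻¹ * a⁻¹)⁻¹ * (r * a * r⁻¹ * a) = a * a := by group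
      rwa [e] at h5
    apply m.ne
    rw [le_antisymm m.le hAK]
    exact hnm
  have hsa : sb ∈ alternatingGroup (Fin 5) := by
    rw [Equiv.Perm.mem_alternatingGroup]; decide +kernel
  have hta : tb ∈ alternatingGroup (Fin 5) := by
    rw [Equiv.Perm.mem_alternatingGroup]; decide +kernel
  rcases hor with h | h
  · exact hfin s h (hkey s hs0 (hs ▸ hsa))
  · exact hfin t h (hkey t ht0 (ht ▸ hta))

end step1

end Cfsg.Agent.Omega.NO3S.WY.OddKer

end

section


/-!
# The odd kernel lemma: `core` (the kernel acts faithfully) and `modul` (modules)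
-/

set_option autoImplicit false
set_option linter.unusedSectionVars false
set_option linter.style.haveILetI false

namespace Cfsg.Agent.Omega.NO3S.WY.OddKer

open Subgroup Cfsg.Agent.SignalizersComponents.RelSylow
open scoped commutatorElement

/-- A nontrivial solvable normal subgroup contains a nontrivial abelian one. -/
theorem exists_ab {H : Type*} [Group H] [Finite H] (R : Subgroup H) [R.Normal] [hs : Group.IsSolvable ↥R]
    (hodd : Odd (Nat.card R)) (hR : R ≠ ⊥) : ∃ A : Subgroup H, A ≤ R ∧ A ≠ ⊥ ∧ Ab A := by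
  classical
  have hex : ∃ n, (derivedSeries ↥R n).map R.subtype = ⊥ := by
    obtain ⟨n, hn⟩ := hs.solvable
    exact ⟨n, by rw [hn, Subgroup.map_bot]⟩
  obtain ⟨n, hn, hmin⟩ : ∃ n, (derivedSeries ↥R n).map R.subtype = ⊥ ∧
      ∀ m < n, (derivedSeries ↥R m).map R.subtype ≠ ⊥ :=
    ⟨Nat.find hex, Nat.find_spec hex, fun m hm => Nat.find_min hex hm⟩
  rcases n with _ | n
  · exfalso
    apply hR
    rw [derivedSeries_zero] at hn
    rw [← hn, ← MonoidHom.range_eq_map, Subgroup.range_subtype]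
  · refine ⟨(derivedSeries ↥R n).map R.subtype, ?_, hmin n (Nat.lt_succ_self n), ?_, ?_, ?_⟩
    · rintro _ ⟨x, _, rfl⟩; exact x.2
    · intro g a ha
      have : ((derivedSeries ↥R n).map R.subtype).Normal := inferInstance
      exact this.conj_mem a ha g
    · rintro _ ⟨x, hx, rfl⟩ _ ⟨y, hy, rfl⟩
      have h1 : ⁅x, y⁆ ∈ derivedSeries ↥R (n + 1) := by
        rw [derivedSeries_succ]
        exact commutator_mem_commutator hx hy
      have h2 : ((⁅x, y⁆ : ↥R) : H) ∈ (derivedSeries ↥R (n + 1)).map R.subtype := ⟨_, h1, rfl⟩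
      rw [hn, mem_bot] at h2
      have h3 : ⁅x, y⁆ = 1 := Subtype.ext h2
      rw [commutatorElement_eq_one_iff_mul_comm] at h3
      exact congrArg Subtype.val h3
    · refine odd_le hodd ?_
      rintro _ ⟨x, _, rfl⟩; exact x.2

/-! ### The faithful case -/

theorem v0_conj : ∀ γ : Equiv.Perm (Fin 5), γ 0 = 0 →
    (γ * sb * γ⁻¹ = sb ∨ γ * sb * γ⁻¹ = tb ∨ γ * sb * γ⁻¹ = sb * tb) ∧
      (γ * tb * γ⁻¹ = sb ∨ γ * tb * γ⁻¹ = tb ∨ γ * tb * γ⁻¹ = sb * tb) := by
  decide +kernel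

theorem alt_trans (X : Subgroup (Equiv.Perm (Fin 5))) (hX : alternatingGroup (Fin 5) ≤ X) (i : Fin 5) :
    ∃ x ∈ X, x 0 = i := by
  have h1 : ∀ i : Fin 5, ∃ x : Equiv.Perm (Fin 5), Equiv.Perm.sign x = 1 ∧ x 0 = i := by decide +kernel
  obtain ⟨x, hx, hi⟩ := h1 i
  exact ⟨x, hX (Equiv.Perm.mem_alternatingGroup.2 hx), hi⟩

section core

variable {H N : Type*} [Group H] [Finite H] [CommGroup N] [MulDistribMulAction H N]

theorem core (h2 : ∀ n : N, n * n = 1) (π : H →* Equiv.Perm (Fin 5)) (hodd : Odd (Nat.card π.ker))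
    (hsol : Group.IsSolvable ↥π.ker) (hf : ∀ g ∈ π.ker, (∀ n : N, g • n = n) → g = 1) {s t : H}
    (hq : QP N s t) (hs : π s = sb) (ht : π t = tb) (hA5 : alternatingGroup (Fin 5) ≤ π.range) {v : N}
    (hgen : closure (Set.range fun g : H => g • v) = ⊤)
    (hv : ∀ g : H, (g * s * g⁻¹ = s ∨ g * s * g⁻¹ = t ∨ g * s * g⁻¹ = s * t) →
      (g * t * g⁻¹ = s ∨ g * t * g⁻¹ = t ∨ g * t * g⁻¹ = s * t) → g • v = v) :
    ∀ g : H, g • v = v := by
  -- the kernel is trivial
  have hker : π.ker = ⊥ := by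
    by_contra hne
    haveI := hsol
    obtain ⟨A, hAk, hA1, hA⟩ := exists_ab π.ker hodd hne
    obtain ⟨_, ⟨g, rfl⟩, hg⟩ := alt_trans π.range hA5 1
    have h3 : ∀ a ∈ A, a • v = v := step1 h2 π hodd hq hs ht ⟨g, by rw [hg]; decide⟩
      (fun g h4 h5 => hv g (Or.inl h4) (Or.inr (Or.inl h5))) hA hAk
    apply hA1
    rw [eq_bot_iff]
    intro a ha
    rw [mem_bot]
    apply hf a (hAk ha)
    intro n
    have hn : n ∈ closure (Set.range fun g : H => g • v) := by rw [hgen]; exact mem_top n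
    induction hn using closure_induction with
    | mem x hx =>
      obtain ⟨g, rfl⟩ := hx
      have h4 := h3 (g⁻¹ * a * g⁻¹⁻¹) (hA.nor g⁻¹ a ha)
      have e : a * g = g * (g⁻¹ * a * g⁻¹⁻¹) := by group
      show a • g • v = g • v
      rw [← mul_smul, e, mul_smul, h4]
    | one => exact smul_one a
    | mul x y _ _ hx hy => rw [smul_mul', hx, hy]
    | inv x _ hx => rw [smul_inv', hx]
  have hinj : Function.Injective π := (MonoidHom.ker_eq_bot_iff π).1 hker
  -- the stabiliser of the letter `0` fixes `v`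
  have hst : ∀ g : H, π g 0 = 0 → g • v = v := by
    intro g hg
    obtain ⟨h3, h4⟩ := v0_conj (π g) hg
    apply hv g
    · rcases h3 with h | h | h
      · left; apply hinj; rw [map_mul, map_mul, map_inv, hs, h]
      · right; left; apply hinj; rw [map_mul, map_mul, map_inv, hs, ht, h]
      · right; right; apply hinj; rw [map_mul, map_mul, map_mul, map_inv, hs, ht, h]
    · rcases h4 with h | h | h
      · left; apply hinj; rw [map_mul, map_mul, map_inv, hs, ht, h]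
      · right; left; apply hinj; rw [map_mul, map_mul, map_inv, ht, h]
      · right; right; apply hinj; rw [map_mul, map_mul, map_mul, map_inv, hs, ht, h]
  have hex : ∀ i : Fin 5, ∃ g : H, π g 0 = i := by
    intro i
    obtain ⟨_, ⟨g, rfl⟩, hg⟩ := alt_trans π.range hA5 i
    exact ⟨g, hg⟩
  choose r hr using hex
  have hact : ∀ g : H, ∀ i : Fin 5, g • (r i • v) = r (π g i) • v := by
    intro g i
    have h3 : ((r (π g i))⁻¹ * (g * r i)) • v = v := by
      apply hst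
      rw [map_mul, map_inv, map_mul, Equiv.Perm.mul_apply, Equiv.Perm.mul_apply, hr, Equiv.Perm.inv_eq_iff_eq, hr]
    rw [mul_smul, inv_smul_eq_iff, mul_smul] at h3
    exact h3
  have hprod : r 1 • v * r 2 • v * r 3 • v * r 4 • v = 1 := by
    have h3 := hq.q (r 1 • v)
    rw [hact t, hact s, hact s, hs, ht] at h3
    have e1 : sb 1 = 2 := by decide +kernel
    have e2 : tb 1 = 3 := by decide +kernel
    have e3 : sb (tb 1) = 4 := by decide +kernel
    rwa [e1, e3, e2] at h3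
  have hp : ∏ i : Fin 5, r i • v = r 0 • v := by
    rw [Fin.prod_univ_five]
    have e : r 0 • v * r 1 • v * r 2 • v * r 3 • v * r 4 • v = r 0 • v * (r 1 • v * r 2 • v * r 3 • v * r 4 • v) := by
      simp only [mul_assoc]
    rw [e, hprod, mul_one]
  have h0 : r 0 • v = v := hst _ (hr 0)
  intro g
  have h3 : g • (∏ i : Fin 5, r i • v) = ∏ i : Fin 5, r i • v := by
    rw [Finset.smul_prod']
    rw [Finset.prod_congr rfl fun i _ => hact g i]
    exact Equiv.prod_comp (π g) fun i => r i • v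
  rw [hp, h0] at h3
  exact h3

end core

end Cfsg.Agent.Omega.NO3S.WY.OddKer

end

section


/-!
# Solvability of `ker π` from solvability modulo the 2-group `D`
-/

set_option autoImplicit false
set_option linter.style.haveILetI false

namespace Cfsg.Agent.Omega.NO3S.WY.OddKer

open Subgroup

universe u

variable {Y : Type u} [Group Y] [Finite Y]

theorem sol_of_quot (K D : Subgroup Y) (nor : D.Normal) (D2 : IsPGroup 2 D)
    (hs : Group.IsSolvable (↥K ⧸ D.subgroupOf K)) : Group.IsSolvable ↥K := by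
  haveI : Fact (Nat.Prime 2) := ⟨Nat.prime_two⟩
  have h2 : IsPGroup 2 (D.subgroupOf K) := D2.comap_of_injective K.subtype K.subtype_injective
  haveI : Group.IsNilpotent ↥(D.subgroupOf K) := h2.isNilpotent
  haveI : Group.IsSolvable ↥(D.subgroupOf K) := inferInstance
  haveI := hs
  refine Group.isSolvable_of_ker_le_range (D.subgroupOf K).subtype (QuotientGroup.mk' (D.subgroupOf K)) ?_
  rw [QuotientGroup.ker_mk', Subgroup.range_subtype]

/-- `Feit–Thompson` as a hypothesis -/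
theorem sol_of_ft (ft : ∀ (H : Type u) [Group H] [Finite H], Odd (Nat.card H) → Group.IsSolvable H) (K D : Subgroup Y)
    (nor : D.Normal) (D2 : IsPGroup 2 D) (ko : Odd (D.relIndex K)) : Group.IsSolvable ↥K := by
  refine sol_of_quot K D nor D2 (ft _ ?_)
  exact ko

end Cfsg.Agent.Omega.NO3S.WY.OddKer

end

section


/-!
# The odd kernel lemma: modules for `Y`
-/

set_option autoImplicit false
set_option linter.unusedSectionVars false
set_option linter.style.haveILetI false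

namespace Cfsg.Agent.Omega.NO3S.WY.OddKer

open Subgroup Cfsg.Agent.SignalizersComponents.RelSylow
open scoped commutatorElement

/-- The group-theoretic data: `π : Y → S_5`, `D = O_2(Y)`, `Q` induces the fours group fixing the letter `0`. -/
structure Dat {Y : Type*} [Group Y] (π : Y →* Equiv.Perm (Fin 5)) (Q D : Subgroup Y) : Prop where
  /-- `D` is normal -/
  nor : D.Normal
  /-- `D` is a 2-group -/
  D2 : IsPGroup 2 D
  /-- `Q` is a 2-group -/
  Q2 : IsPGroup 2 Q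
  /-- `D ≤ ker π` -/
  Dk : D ≤ π.ker
  /-- `|ker π : D|` is odd -/
  ko : Odd (D.relIndex π.ker)
  /-- `ker π` is solvable -/
  sol : Group.IsSolvable ↥π.ker
  /-- the image contains `A_5` -/
  alt : alternatingGroup (Fin 5) ≤ π.range
  /-- `Q` induces `V_4` -/
  sQ : ∃ s ∈ Q, π s = sb
  /-- `Q` induces `V_4` -/
  tQ : ∃ t ∈ Q, π t = tb
  /-- `Q` induces `V_4` -/
  vQ : ∀ q ∈ Q, π q = 1 ∨ π q = sb ∨ π q = tb ∨ π q = sb * tb
  /-- `D` normalises `Q` -/
  DQ : D ≤ normalizer (Q : Set Y)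
  /-- `Q` is weakly closed -/
  wc : normalizer ((Q ⊔ D : Subgroup Y) : Set Y) ≤ normalizer (Q : Set Y)

variable {Y : Type*} [Group Y] [Finite Y] {π : Y →* Equiv.Perm (Fin 5)} {Q D : Subgroup Y}

theorem Dat.mem_D (d : Dat π Q D) {x : Y} (hx : x ∈ π.ker) {k : ℕ} (h : x ^ 2 ^ k = 1) : x ∈ D := by
  haveI := d.nor
  have h1 : x ^ D.relIndex π.ker ∈ D := pow_relIndex_mem D hx
  have h3 : x ∈ zpowers (x ^ D.relIndex π.ker) := by
    rw [mem_zpowers_pow_iff]
    have h4 : orderOf x ∣ 2 ^ k := orderOf_dvd_of_pow_eq_one h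
    have h5 : Nat.Coprime (D.relIndex π.ker) (2 ^ k) :=
      Nat.Coprime.pow_right k ((Nat.coprime_two_right).2 d.ko)
    exact Nat.Coprime.coprime_dvd_right h4 h5
  exact (zpowers_le.2 h1) h3

theorem Dat.inf_le (d : Dat π Q D) {x : Y} (hQ : x ∈ Q) (hx : x ∈ π.ker) : x ∈ D := by
  obtain ⟨k, hk⟩ := d.Q2 ⟨x, hQ⟩
  exact d.mem_D hx (congrArg Subtype.val hk)

theorem mem_norm {P : Subgroup Y} {y : Y} (h : ∀ x ∈ P, y * x * y⁻¹ ∈ P) : y ∈ normalizer (P : Set Y) := by
  rw [mem_normalizer_iff]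
  intro x
  refine ⟨h x, fun hx => ?_⟩
  let f : P → P := fun k => ⟨y * k * y⁻¹, h k k.2⟩
  have hf : Function.Injective f := by
    intro a b hab
    have h1 : y * (a : Y) * y⁻¹ = y * b * y⁻¹ := congrArg Subtype.val hab
    exact Subtype.ext (mul_left_cancel (mul_right_cancel h1))
  obtain ⟨k, hk⟩ := Finite.surjective_of_injective hf ⟨y * x * y⁻¹, hx⟩
  have h1 : y * (k : Y) * y⁻¹ = y * x * y⁻¹ := congrArg Subtype.val hk
  have h2 : (k : Y) = x := mul_left_cancel (mul_right_cancel h1)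
  rw [← h2]
  exact k.2

section modul

variable {N : Type*} [CommGroup N] [MulDistribMulAction Y N]

/-- the submodule generated by `v` -/
def gen (Y : Type*) [Group Y] {N : Type*} [CommGroup N] [MulDistribMulAction Y N] (v : N) : Subgroup N :=
  closure (Set.range fun y : Y => y • v)

theorem smul_gen {Y : Type*} [Group Y] {N : Type*} [CommGroup N] [MulDistribMulAction Y N] {v : N} (y : Y) {n : N}
    (hn : n ∈ gen Y v) : y • n ∈ gen Y v := by
  unfold gen at hn ⊢
  induction hn using closure_induction with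
  | mem x hx =>
    obtain ⟨g, rfl⟩ := hx
    exact subset_closure ⟨y * g, by show (y * g) • v = y • g • v; rw [mul_smul]⟩
  | one => rw [smul_one]; exact one_mem _
  | mul x z _ _ hx hz => rw [smul_mul']; exact mul_mem hx hz
  | inv x _ hx => rw [smul_inv']; exact inv_mem hx

/-- the action on the submodule -/
@[reducible] def genAct (Y : Type*) [Group Y] {N : Type*} [CommGroup N] [MulDistribMulAction Y N] (v : N) :
    MulDistribMulAction Y ↥(gen Y v) where
  smul y n := ⟨y • (n : N), smul_gen y n.2⟩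
  one_smul n := Subtype.ext (one_smul Y (n : N))
  mul_smul x y n := Subtype.ext (mul_smul x y (n : N))
  smul_mul y m n := Subtype.ext (smul_mul' y (m : N) (n : N))
  smul_one y := Subtype.ext (smul_one y)

/-- **The odd kernel lemma for modules** -/
theorem modul (d : Dat π Q D) (h2 : ∀ n : N, n * n = 1)
    (hq : ∀ q ∈ Q, ∀ q' ∈ Q, ∀ n : N, n * q • n * q' • n * q • q' • n = 1) {v : N}
    (hv : ∀ g ∈ normalizer (Q : Set Y), g • v = v) : ∀ y : Y, y • v = v := by
  haveI := d.nor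
  letI act := genAct Y v
  let ρ : Y →* MulAut ↥(gen Y v) × Equiv.Perm (Fin 5) := (MulDistribMulAction.toMulAut Y ↥(gen Y v)).prod π
  have hρ1 : ∀ y (n : ↥(gen Y v)), (ρ y).1 n = y • n := fun _ _ => rfl
  have hρ2 : ∀ y, (ρ y).2 = π y := fun _ => rfl
  let f : ↥ρ.range →* MulAut ↥(gen Y v) := (MonoidHom.fst _ _).comp ρ.range.subtype
  letI actH : MulDistribMulAction ↥ρ.range ↥(gen Y v) := MulDistribMulAction.compHom _ f
  haveI : Finite ↥ρ.range := Finite.of_surjective _ ρ.rangeRestrict_surjective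
  have hsm : ∀ y (n : ↥(gen Y v)), (ρ.rangeRestrict y) • n = y • n := fun _ _ => rfl
  let π' : ↥ρ.range →* Equiv.Perm (Fin 5) := (MonoidHom.snd _ _).comp ρ.range.subtype
  have hπ' : ∀ y, π' (ρ.rangeRestrict y) = π y := fun _ => rfl
  let w : ↥(gen Y v) := ⟨v, subset_closure ⟨1, one_smul Y v⟩⟩
  have hwy : ∀ y : Y, ((y • w : ↥(gen Y v)) : N) = y • v := fun _ => rfl
  have hgenw : closure (Set.range fun y : Y => y • w) = ⊤ := by
    rw [eq_top_iff]
    intro n _
    have h3 : (n : N) ∈ (closure (Set.range fun y : Y => y • w)).map (gen Y v).subtype := by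
      rw [MonoidHom.map_closure]
      have : (gen Y v).subtype '' (Set.range fun y : Y => y • w) = Set.range fun y : Y => y • v := by
        rw [← Set.range_comp]; rfl
      rw [this]
      exact n.2
    obtain ⟨m, hm, hmn⟩ := h3
    have : m = n := Subtype.ext hmn
    rwa [this] at hm
  -- `D` acts trivially
  have hDtriv : ∀ x ∈ D, ∀ n : ↥(gen Y v), x • n = n := by
    intro x hx n
    have hn : n ∈ closure (Set.range fun y : Y => y • w) := by rw [hgenw]; exact mem_top n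
    induction hn using closure_induction with
    | mem z hz =>
      obtain ⟨g, rfl⟩ := hz
      show x • g • w = g • w
      have e : x * g = g * (g⁻¹ * x * g) := by group
      have h3 : g⁻¹ * x * g ∈ D := by
        have := d.nor.conj_mem x hx g⁻¹
        rwa [inv_inv] at this
      have h4 : (g⁻¹ * x * g) • w = w := Subtype.ext (hv _ (d.DQ h3))
      rw [← mul_smul, e, mul_smul, h4]
    | one => exact smul_one x
    | mul y z _ _ hy hz => rw [smul_mul', hy, hz]
    | inv y _ hy => rw [smul_inv', hy]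
  have hDρ : D ≤ ρ.ker := by
    intro x hx
    rw [MonoidHom.mem_ker]
    refine Prod.ext (MulEquiv.ext fun n => hDtriv x hx n) ?_
    exact (MonoidHom.mem_ker).1 (d.Dk hx)
  have hkermem : ∀ x, x ∈ ρ.ker ↔ (∀ n : ↥(gen Y v), x • n = n) ∧ π x = 1 := by
    intro x
    rw [MonoidHom.mem_ker, Prod.ext_iff]
    constructor
    · rintro ⟨h3, h4⟩
      exact ⟨fun n => by
        have := DFunLike.congr_fun h3 n
        exact this, h4⟩
    · rintro ⟨h3, h4⟩
      exact ⟨MulEquiv.ext fun n => h3 n, h4⟩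
  have hker' : π'.ker = π.ker.map ρ.rangeRestrict := by
    ext x
    obtain ⟨y, rfl⟩ := ρ.rangeRestrict_surjective x
    constructor
    · intro hx
      exact ⟨y, hx, rfl⟩
    · rintro ⟨z, hz, hzy⟩
      rw [← hzy]
      exact hz
  have hodd : Odd (Nat.card π'.ker) := by
    rw [hker', ← relIndex_ker, MonoidHom.ker_rangeRestrict]
    exact Odd.of_dvd_nat d.ko (relIndex_dvd_of_le_left _ hDρ)
  have hsol : Group.IsSolvable ↥π'.ker := by
    rw [hker']
    haveI := d.sol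
    exact Group.isSolvable_of_surjective (ρ.rangeRestrict.subgroupMap_surjective π.ker)
  have hρeq : ∀ x y : Y, x * y⁻¹ ∈ ρ.ker → ρ.rangeRestrict x = ρ.rangeRestrict y := by
    intro x y h
    rw [← MonoidHom.ker_rangeRestrict, MonoidHom.mem_ker, map_mul, map_inv, mul_inv_eq_one] at h
    exact h
  have hQeq : ∀ x ∈ Q, ∀ y ∈ Q, π x = π y → ρ.rangeRestrict x = ρ.rangeRestrict y := by
    intro x hx y hy h
    apply hρeq
    apply hDρ
    apply d.inf_le (mul_mem hx (inv_mem hy))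
    rw [MonoidHom.mem_ker, map_mul, map_inv, h, mul_inv_cancel]
  obtain ⟨s, hsQ, hs⟩ := d.sQ
  obtain ⟨t, htQ, ht⟩ := d.tQ
  have hb1 : sb * sb = 1 := by decide +kernel
  have hb2 : tb * tb = 1 := by decide +kernel
  have hb3 : sb * tb = tb * sb := by decide +kernel
  have hqp : QP ↥(gen Y v) (ρ.rangeRestrict s) (ρ.rangeRestrict t) := by
    refine ⟨?_, ?_, ?_, ?_⟩
    · rw [← map_mul, ← map_one ρ.rangeRestrict]
      exact hQeq _ (mul_mem hsQ hsQ) _ (one_mem Q) (by rw [map_mul, hs, hb1, map_one])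
    · rw [← map_mul, ← map_one ρ.rangeRestrict]
      exact hQeq _ (mul_mem htQ htQ) _ (one_mem Q) (by rw [map_mul, ht, hb2, map_one])
    · rw [← map_mul, ← map_mul]
      exact hQeq _ (mul_mem hsQ htQ) _ (mul_mem htQ hsQ) (by rw [map_mul, map_mul, hs, ht, hb3])
    · intro n
      exact Subtype.ext (hq s hsQ t htQ (n : N))
  have hA5 : alternatingGroup (Fin 5) ≤ π'.range := by
    intro x hx
    obtain ⟨y, hy⟩ := d.alt hx
    exact ⟨ρ.rangeRestrict y, hy⟩
  have hgen : closure (Set.range fun g : ↥ρ.range => g • w) = ⊤ := by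
    rw [← hgenw]
    congr 1
    ext n
    constructor
    · rintro ⟨x, rfl⟩
      obtain ⟨y, rfl⟩ := ρ.rangeRestrict_surjective x
      exact ⟨y, rfl⟩
    · rintro ⟨y, rfl⟩
      exact ⟨ρ.rangeRestrict y, rfl⟩
  have hf : ∀ g ∈ π'.ker, (∀ n : ↥(gen Y v), g • n = n) → g = 1 := by
    intro g hg hn
    apply Subtype.ext
    refine Prod.ext (MulEquiv.ext fun n => hn n) ?_
    exact hg
  -- elements of the image of `Q`
  have hQim : ∀ q ∈ Q, ρ.rangeRestrict q = 1 ∨ ρ.rangeRestrict q = ρ.rangeRestrict s ∨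
      ρ.rangeRestrict q = ρ.rangeRestrict t ∨ ρ.rangeRestrict q = ρ.rangeRestrict s * ρ.rangeRestrict t := by
    intro q hq
    rcases d.vQ q hq with h | h | h | h
    · left; rw [← map_one ρ.rangeRestrict]; exact hQeq q hq 1 (one_mem Q) (by rw [h, map_one])
    · right; left; exact hQeq q hq s hsQ (by rw [h, hs])
    · right; right; left; exact hQeq q hq t htQ (by rw [h, ht])
    · right; right; right; rw [← map_mul]; exact hQeq q hq _ (mul_mem hsQ htQ) (by rw [h, map_mul, hs, ht])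
  have hTim : ∀ x : ↥ρ.range, (x = ρ.rangeRestrict s ∨ x = ρ.rangeRestrict t ∨
      x = ρ.rangeRestrict s * ρ.rangeRestrict t) → x ∈ Q.map ρ.rangeRestrict := by
    rintro x (rfl | rfl | rfl)
    · exact ⟨s, hsQ, rfl⟩
    · exact ⟨t, htQ, rfl⟩
    · exact ⟨s * t, mul_mem hsQ htQ, map_mul _ _ _⟩
  have hfix : ∀ g : ↥ρ.range, (g * ρ.rangeRestrict s * g⁻¹ = ρ.rangeRestrict s ∨
      g * ρ.rangeRestrict s * g⁻¹ = ρ.rangeRestrict t ∨
      g * ρ.rangeRestrict s * g⁻¹ = ρ.rangeRestrict s * ρ.rangeRestrict t) →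
      (g * ρ.rangeRestrict t * g⁻¹ = ρ.rangeRestrict s ∨ g * ρ.rangeRestrict t * g⁻¹ = ρ.rangeRestrict t ∨
      g * ρ.rangeRestrict t * g⁻¹ = ρ.rangeRestrict s * ρ.rangeRestrict t) → g • w = w := by
    intro g h3 h4
    obtain ⟨y, rfl⟩ := ρ.rangeRestrict_surjective g
    have h3' := hTim _ h3
    have h4' := hTim _ h4
    have h5 : ∀ q ∈ Q, ρ.rangeRestrict (y * q * y⁻¹) ∈ Q.map ρ.rangeRestrict := by
      intro q hq
      rw [map_mul, map_mul, map_inv]
      rcases hQim q hq with h | h | h | h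
      · rw [h, mul_one, mul_inv_cancel]; exact one_mem _
      · rw [h]; exact h3'
      · rw [h]; exact h4'
      · rw [h]
        have e : ρ.rangeRestrict y * (ρ.rangeRestrict s * ρ.rangeRestrict t) * (ρ.rangeRestrict y)⁻¹ =
          ρ.rangeRestrict y * ρ.rangeRestrict s * (ρ.rangeRestrict y)⁻¹ *
          (ρ.rangeRestrict y * ρ.rangeRestrict t * (ρ.rangeRestrict y)⁻¹) := by group
        rw [e]
        exact mul_mem h3' h4'
    -- `y` normalises `Q ρ.ker`
    have h6 : ∀ x ∈ Q ⊔ ρ.ker, y * x * y⁻¹ ∈ Q ⊔ ρ.ker := by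
      intro x hx
      obtain ⟨q, hq, r, hr, rfl⟩ := mem_sup_of_normal_right.1 hx
      have e : y * (q * r) * y⁻¹ = y * q * y⁻¹ * (y * r * y⁻¹) := by group
      rw [e]
      have hr' : y * r * y⁻¹ ∈ ρ.ker := (inferInstance : ρ.ker.Normal).conj_mem r hr y
      refine mul_mem ?_ (mem_sup_right hr')
      obtain ⟨q', hq', h7⟩ := h5 q hq
      have h8 : q'⁻¹ * (y * q * y⁻¹) ∈ ρ.ker := by
        rw [← MonoidHom.ker_rangeRestrict, MonoidHom.mem_ker, map_mul, map_inv, h7, inv_mul_cancel]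
      have e2 : y * q * y⁻¹ = q' * (q'⁻¹ * (y * q * y⁻¹)) := by group
      rw [e2]
      exact mul_mem_sup hq' h8
    have hyn : y ∈ normalizer ((Q ⊔ ρ.ker : Subgroup Y) : Set Y) := by
      exact mem_norm h6
    -- the Sylow subgroup
    have hQD2 : IsPGroup 2 ↥(Q ⊔ D : Subgroup Y) := d.Q2.to_sup_of_normal_right d.D2
    have hQDle : Q ⊔ D ≤ Q ⊔ ρ.ker := sup_le_sup_left hDρ Q
    obtain ⟨P, hP, hQP⟩ := exists_isMaxP hQD2 hQDle
    have hPeq : P = Q ⊔ D := by
      refine le_antisymm ?_ hQP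
      intro x hx
      obtain ⟨q, hq, r, hr, hqr⟩ := mem_sup_of_normal_right.1 (hP.2.1 hx)
      have hrP : r ∈ P := by
        have : r = q⁻¹ * x := by rw [← hqr]; group
        rw [this]
        exact mul_mem (inv_mem (hQP (mem_sup_left hq))) hx
      obtain ⟨k, hk⟩ := hP.1 ⟨r, hrP⟩
      have hrD : r ∈ D := d.mem_D (MonoidHom.mem_ker.2 ((hkermem r).1 hr).2) (congrArg Subtype.val hk)
      rw [← hqr]
      exact mul_mem_sup hq hrD
    subst hPeq
    haveI : Fact (Nat.Prime 2) := ⟨Nat.prime_two⟩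
    obtain ⟨c, hc, hcy⟩ := (hP.map_conj_mem hyn).exists_conj hP
    have hcyn : c * y ∈ normalizer ((Q ⊔ D : Subgroup Y) : Set Y) := by
      refine mem_norm fun x hx => ?_
      rw [← hcy, mem_map_conj, mem_map_conj]
      have e : y⁻¹ * (c⁻¹ * (c * y * x * (c * y)⁻¹) * c) * y = x := by group
      rw [e]
      exact hx
    have h7 : (c * y) • v = v := hv _ (d.wc hcyn)
    have h8 : c • v = v := by
      obtain ⟨q, hq, r, hr, rfl⟩ := mem_sup_of_normal_right.1 hc
      have h9 : r • v = v := congrArg Subtype.val (((hkermem r).1 hr).1 w)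
      rw [mul_smul, h9]
      exact hv q (le_normalizer hq)
    have h9 : y • v = v := by
      have e : y = c⁻¹ * (c * y) := by group
      rw [e, mul_smul, h7, inv_smul_eq_iff, h8]
    exact Subtype.ext h9
  have hfin := core (fun n => Subtype.ext (h2 (n : N))) π' hodd hsol hf hqp (by rw [hπ', hs]) (by rw [hπ', ht]) hA5
    hgen hfix
  intro y
  exact congrArg Subtype.val (hfin (ρ.rangeRestrict y))

end modul

end Cfsg.Agent.Omega.NO3S.WY.OddKer

end

section


/-!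
# THE ODD KERNEL LEMMA ((0) of THEOREM TOR, helper474 #25011)

* `Dat π Q D` (in `OddKerD`): the data inside `Y`; constructors `Dat.of` (ambient group `G`, letters `Fin 5`) and
  `Dat.ofAction` (action on a set of five elements).
* `sect` : sections `X/X'` of `G`;
* `Ker0`, `ker0` : the shape used in (1), (4), (4+).
-/

set_option autoImplicit false
set_option linter.unusedSectionVars false
set_option linter.style.haveILetI false

namespace Cfsg.Agent.Omega.NO3S.WY.OddKer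

open Subgroup
open scoped commutatorElement

/-! ### The fours group -/

theorem v0_aux : ∀ x : Equiv.Perm (Fin 5), x 0 = 0 → x * x = 1 → (∀ i, i ≠ 0 → x i ≠ i) →
    (x = sb ∨ x = tb ∨ x = sb * tb) ∧ (x 1 = 2 → x = sb) ∧ (x 1 = 3 → x = tb) := by
  decide +kernel

/-- A group of exponent 2 fixing `0` and transitive on the other four letters is the fours group. -/
theorem v0_of {X : Subgroup (Equiv.Perm (Fin 5))} (h0 : ∀ x ∈ X, x 0 = 0) (h2 : ∀ x ∈ X, x * x = 1)
    (htr : ∀ i : Fin 5, i ≠ 0 → ∀ j : Fin 5, j ≠ 0 → ∃ x ∈ X, x i = j) :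
    sb ∈ X ∧ tb ∈ X ∧ ∀ x ∈ X, x = 1 ∨ x = sb ∨ x = tb ∨ x = sb * tb := by
  have hinv : ∀ x ∈ X, x⁻¹ = x := fun x hx => inv_eq_of_mul_eq_one_left (h2 x hx)
  have hcomm : ∀ x ∈ X, ∀ y ∈ X, x * y = y * x := by
    intro x hx y hy
    have h3 := hinv _ (X.mul_mem hx hy)
    rw [mul_inv_rev, hinv x hx, hinv y hy] at h3
    exact h3.symm
  have hreg : ∀ x ∈ X, ∀ i : Fin 5, i ≠ 0 → x i = i → x = 1 := by
    intro x hx i hi hxi
    ext1 j
    by_cases hj : j = 0
    · rw [hj, h0 x hx]; rfl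
    · obtain ⟨y, hy, hyi⟩ := htr i hi j hj
      have h3 : x (y i) = y (x i) := by
        have := congrArg (fun f : Equiv.Perm (Fin 5) => f i) (hcomm x hx y hy)
        simpa using this
      rw [hxi, hyi] at h3
      rw [h3]; rfl
  have hne : ∀ x ∈ X, x ≠ 1 → ∀ i, i ≠ 0 → x i ≠ i := fun x hx hx1 i hi h => hx1 (hreg x hx i hi h)
  refine ⟨?_, ?_, ?_⟩
  · obtain ⟨x, hx, hx1⟩ := htr 1 (by decide) 2 (by decide)
    have hx1' : x ≠ 1 := by rintro rfl; revert hx1; decide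
    rw [← (v0_aux x (h0 x hx) (h2 x hx) (hne x hx hx1')).2.1 hx1]
    exact hx
  · obtain ⟨x, hx, hx1⟩ := htr 1 (by decide) 3 (by decide)
    have hx1' : x ≠ 1 := by rintro rfl; revert hx1; decide
    rw [← (v0_aux x (h0 x hx) (h2 x hx) (hne x hx hx1')).2.2 hx1]
    exact hx
  · intro x hx
    by_cases hx1 : x = 1
    · exact Or.inl hx1
    · exact Or.inr (v0_aux x (h0 x hx) (h2 x hx) (hne x hx hx1)).1

section amb

variable {G : Type*} [Group G] [Finite G] {Y Q D : Subgroup G}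

/-- The data from the ambient group, letters `Fin 5`. -/
theorem Dat.of (π : ↥Y →* Equiv.Perm (Fin 5)) (QY : Q ≤ Y) (DY : D ≤ Y) (DN : Y ≤ normalizer (D : Set G))
    (D2 : IsPGroup 2 D) (Q2 : IsPGroup 2 Q) (Dk : ∀ d : ↥Y, (d : G) ∈ D → π d = 1)
    (ko : Odd ((D.subgroupOf Y).relIndex π.ker)) (sol : Group.IsSolvable ↥π.ker)
    (mv : ∃ y : ↥Y, π y 0 ≠ 0) (q0 : ∀ q : ↥Y, (q : G) ∈ Q → π q 0 = 0)
    (q2 : ∀ q : ↥Y, (q : G) ∈ Q → π q * π q = 1)
    (qt : ∀ i : Fin 5, i ≠ 0 → ∀ j : Fin 5, j ≠ 0 → ∃ q : ↥Y, (q : G) ∈ Q ∧ π q i = j)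
    (DQ : D ≤ normalizer (Q : Set G))
    (wc : ∀ y ∈ Y, y ∈ normalizer ((Q ⊔ D : Subgroup G) : Set G) → y ∈ normalizer (Q : Set G)) :
    Dat π (Q.subgroupOf Y) (D.subgroupOf Y) := by
  have hsup : (Q.subgroupOf Y ⊔ D.subgroupOf Y).map Y.subtype = Q ⊔ D := by
    rw [Subgroup.map_sup, subgroupOf_map_subtype, subgroupOf_map_subtype, inf_of_le_left QY, inf_of_le_left DY]
  have hnor : ∀ (P : Subgroup G) (y : ↥Y), P ≤ Y →
      (y ∈ normalizer ((P.subgroupOf Y : Subgroup ↥Y) : Set ↥Y) ↔ (y : G) ∈ normalizer (P : Set G)) := by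
    intro P y hP
    rw [mem_normalizer_iff, mem_normalizer_iff]
    constructor
    · intro h x
      constructor
      · intro hx
        have := (h ⟨x, hP hx⟩).1 (mem_subgroupOf.2 hx)
        exact mem_subgroupOf.1 this
      · intro hx
        have h3 : x ∈ Y := by
          have h4 := Y.mul_mem (Y.mul_mem (Y.inv_mem y.2) (hP hx)) y.2
          have e : (y : G)⁻¹ * (y * x * (y : G)⁻¹) * y = x := by group
          rwa [e] at h4
        have := (h ⟨x, h3⟩).2 (mem_subgroupOf.2 hx)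
        exact mem_subgroupOf.1 this
    · intro h x
      rw [mem_subgroupOf, mem_subgroupOf]
      exact h x
  obtain ⟨h1, h3, h4⟩ := v0_of (X := (Q.subgroupOf Y).map π) (by rintro _ ⟨x, hx, rfl⟩; exact q0 x hx)
    (by rintro _ ⟨x, hx, rfl⟩; exact q2 x hx) (fun i hi j hj => by
      obtain ⟨q, hq, hqi⟩ := qt i hi j hj
      exact ⟨π q, ⟨q, hq, rfl⟩, hqi⟩)
  have hsb : sb ∈ π.range := by obtain ⟨x, _, hx⟩ := h1; exact ⟨x, hx⟩
  have htb : tb ∈ π.range := by obtain ⟨x, _, hx⟩ := h3; exact ⟨x, hx⟩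
  refine ⟨?_, ?_, ?_, ?_, ko, sol, ?_, ?_, ?_, ?_, ?_, ?_⟩
  · constructor
    intro d hd y
    rw [mem_subgroupOf] at hd ⊢
    exact (mem_normalizer_iff.1 (DN y.2) d).1 hd
  · exact D2.comap_of_injective Y.subtype Y.subtype_injective
  · exact Q2.comap_of_injective Y.subtype Y.subtype_injective
  · intro d hd
    exact Dk d hd
  · obtain ⟨y, hy⟩ := mv
    exact alt_le hsb htb hy 0 (π.range.mul_mem (π.range.mul_mem ⟨y, rfl⟩ hsb) (π.range.inv_mem ⟨y, rfl⟩))
  · obtain ⟨x, hx, hx1⟩ := h1; exact ⟨x, hx, hx1⟩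
  · obtain ⟨x, hx, hx1⟩ := h3; exact ⟨x, hx, hx1⟩
  · intro q hq; exact h4 _ ⟨q, hq, rfl⟩
  · intro d hd
    exact (hnor Q d QY).2 (DQ hd)
  · intro y hy
    apply (hnor Q y QY).2
    apply wc y y.2
    rw [← hsup, ← hnor _ y (by rintro _ ⟨x, _, rfl⟩; exact x.2)]
    have e : ((Q.subgroupOf Y ⊔ D.subgroupOf Y).map Y.subtype).subgroupOf Y = Q.subgroupOf Y ⊔ D.subgroupOf Y := by
      rw [subgroupOf, comap_map_eq_self_of_injective Y.subtype_injective]
    rw [e]
    exact hy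

end amb

/-! ### Sections -/

section sect

variable {G : Type*} [Group G] {Y X X' : Subgroup G}

/-- a section which is elementary abelian and invariant under `Y` -/
structure Sec (Y X X' : Subgroup G) : Prop where
  /-- `X' ≤ X` -/
  le : X' ≤ X
  /-- `Y` normalises `X` -/
  nX : Y ≤ normalizer (X : Set G)
  /-- `Y` normalises `X'` -/
  nX' : Y ≤ normalizer (X' : Set G)
  /-- abelian -/
  cm : ∀ a ∈ X, ∀ b ∈ X, ⁅a, b⁆ ∈ X'
  /-- exponent 2 -/
  sq : ∀ a ∈ X, a * a ∈ X'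

theorem Sec.normal (h : Sec Y X X') : (X'.subgroupOf X).Normal := by
  constructor
  intro n hn g
  rw [mem_subgroupOf] at hn ⊢
  have h1 := h.cm g g.2 n n.2
  have h2 := X'.mul_mem h1 hn
  rw [commutatorElement_def] at h2
  have e : (g : G) * n * (g : G)⁻¹ * (n : G)⁻¹ * n = g * n * (g : G)⁻¹ := by group
  rw [e] at h2
  exact h2

/-- the section as a commutative group -/
@[reducible] def Sec.comm (h : Sec Y X X') : CommGroup (↥X ⧸ X'.subgroupOf X) :=
  haveI := h.normal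
  { QuotientGroup.Quotient.group (X'.subgroupOf X) with
    mul_comm := by
      intro a b
      obtain ⟨a, rfl⟩ := QuotientGroup.mk_surjective a
      obtain ⟨b, rfl⟩ := QuotientGroup.mk_surjective b
      refine QuotientGroup.eq.2 ?_
      rw [mem_subgroupOf]
      have h1 := h.cm _ (X.inv_mem b.2) _ (X.inv_mem a.2)
      rw [commutatorElement_def, inv_inv, inv_inv] at h1
      have e : (((a * b)⁻¹ * (b * a) : ↥X) : G) = (b : G)⁻¹ * (a : G)⁻¹ * b * a := by
        push_cast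
        group
      rw [e]
      exact h1 }

/-- conjugation by `y ∈ Y` on `X` -/
def Sec.cj (h : Sec Y X X') (y : ↥Y) : ↥X →* ↥X where
  toFun x := ⟨y * x * (y : G)⁻¹, (mem_normalizer_iff.1 (h.nX y.2) x).1 x.2⟩
  map_one' := Subtype.ext (by simp)
  map_mul' a b := Subtype.ext (by simp)

theorem Sec.cj_apply (h : Sec Y X X') (y : ↥Y) (x : ↥X) : (h.cj y x : G) = y * x * (y : G)⁻¹ := rfl

theorem Sec.cj_le (h : Sec Y X X') (y : ↥Y) : X'.subgroupOf X ≤ (X'.subgroupOf X).comap (h.cj y) := by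
  intro x hx
  rw [mem_comap, mem_subgroupOf]
  exact (mem_normalizer_iff.1 (h.nX' y.2) x).1 (mem_subgroupOf.1 hx)

/-- the action of `Y` on the section -/
@[reducible] def Sec.act (h : Sec Y X X') :
    @MulDistribMulAction ↥Y (↥X ⧸ X'.subgroupOf X) _ (h.comm).toGroup.toMonoid :=
  haveI := h.normal
  letI := h.comm
  { smul := fun y n => QuotientGroup.map _ _ (h.cj y) (h.cj_le y) n
    one_smul := by
      intro n
      obtain ⟨n, rfl⟩ := QuotientGroup.mk_surjective n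
      show ((h.cj 1 n : ↥X) : ↥X ⧸ X'.subgroupOf X) = n
      congr 1
      exact Subtype.ext (by rw [h.cj_apply]; simp)
    mul_smul := by
      intro a b n
      obtain ⟨n, rfl⟩ := QuotientGroup.mk_surjective n
      show ((h.cj (a * b) n : ↥X) : ↥X ⧸ X'.subgroupOf X) = ((h.cj a (h.cj b n) : ↥X) : ↥X ⧸ X'.subgroupOf X)
      congr 1
      exact Subtype.ext (by simp only [h.cj_apply]; push_cast; group)
    smul_mul := fun y m n => map_mul (QuotientGroup.map _ _ (h.cj y) (h.cj_le y)) m n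
    smul_one := fun y => map_one (QuotientGroup.map _ _ (h.cj y) (h.cj_le y)) }

theorem four_aux {M : Type*} [CommGroup M] (a b c e : M) : a * b * c * e = c * a * (e * b) := by
  rw [mul_comm c a, mul_comm e b, mul_mul_mul_comm, ← mul_assoc]

variable [Finite G] {Q D : Subgroup G} {π : ↥Y →* Equiv.Perm (Fin 5)}

/-- **THE ODD KERNEL LEMMA** for sections. -/
theorem sect (d : Dat π (Q.subgroupOf Y) (D.subgroupOf Y)) (QY : Q ≤ Y) (h : Sec Y X X')
    (qd : ∀ q ∈ Q, ∀ q' ∈ Q, ∀ x ∈ X, ⁅q, ⁅q', x⁆⁆ ∈ X') {v : G} (hv : v ∈ X)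
    (hvN : ∀ g ∈ Y, g ∈ normalizer (Q : Set G) → ⁅g, v⁆ ∈ X') : ∀ y ∈ Y, ⁅y, v⁆ ∈ X' := by
  haveI := h.normal
  letI := h.comm
  letI := h.act
  have hsm : ∀ (y : ↥Y) (x : ↥X), y • (x : ↥X ⧸ X'.subgroupOf X) = ((h.cj y x : ↥X) : ↥X ⧸ X'.subgroupOf X) :=
    fun _ _ => rfl
  have hfix : ∀ (y : ↥Y) (x : ↥X), y • (x : ↥X ⧸ X'.subgroupOf X) = x ↔ ⁅(y : G), (x : G)⁆ ∈ X' := by
    intro y x
    rw [hsm, QuotientGroup.eq_iff_div_mem, mem_subgroupOf, div_eq_mul_inv]
    exact Iff.rfl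
  have h2 : ∀ n : ↥X ⧸ X'.subgroupOf X, n * n = 1 := by
    intro n
    obtain ⟨n, rfl⟩ := QuotientGroup.mk_surjective n
    have h3 : ((n * n : ↥X) : ↥X ⧸ X'.subgroupOf X) = 1 := by
      rw [QuotientGroup.eq_one_iff, mem_subgroupOf]
      exact h.sq n n.2
    exact h3
  have hq : ∀ q ∈ Q.subgroupOf Y, ∀ q' ∈ Q.subgroupOf Y, ∀ n : ↥X ⧸ X'.subgroupOf X,
      n * q • n * q' • n * q • q' • n = 1 := by
    intro q hq q' hq' n
    obtain ⟨n, rfl⟩ := QuotientGroup.mk_surjective n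
    have h3 := qd q hq q' hq' n n.2
    set c : ↥X := h.cj q' n * n⁻¹ with hc
    have hcc : (c : G) = ⁅(q' : G), (n : G)⁆ := by
      rw [hc, commutatorElement_def]
      push_cast
      rw [h.cj_apply]
    have h4 : q • (c : ↥X ⧸ X'.subgroupOf X) = c := by
      rw [hfix, hcc]; exact h3
    have h5 : (c : ↥X ⧸ X'.subgroupOf X) = q' • (n : ↥X ⧸ X'.subgroupOf X) * n := by
      rw [hc, QuotientGroup.mk_mul, QuotientGroup.mk_inv, ← hsm]
      rw [inv_eq h2]
    rw [h5, smul_mul'] at h4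
    set N := (n : ↥X ⧸ X'.subgroupOf X)
    calc N * q • N * q' • N * q • q' • N = (q' • N * N) * (q • q' • N * q • N) := by
          exact four_aux _ _ _ _
      _ = (q' • N * N) * (q' • N * N) := by rw [h4]
      _ = 1 := h2 _
  have hfin := modul d h2 hq (v := ((⟨v, hv⟩ : ↥X) : ↥X ⧸ X'.subgroupOf X)) (by
    intro g hg
    rw [hfix]
    apply hvN g g.2
    rw [mem_normalizer_iff] at hg ⊢
    intro x
    constructor
    · intro hx
      exact mem_subgroupOf.1 ((hg ⟨x, QY hx⟩).1 (mem_subgroupOf.2 hx))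
    · intro hx
      have h3 : x ∈ Y := by
        have h4 := Y.mul_mem (Y.mul_mem (Y.inv_mem g.2) (QY hx)) g.2
        have e : (g : G)⁻¹ * (g * x * (g : G)⁻¹) * g = x := by group
        rwa [e] at h4
      exact mem_subgroupOf.1 ((hg ⟨x, h3⟩).2 (mem_subgroupOf.2 hx)))
  intro y hy
  exact (hfix ⟨y, hy⟩ ⟨v, hv⟩).1 (hfin ⟨y, hy⟩)

/-- the shape used in (1), (4), (4+) -/
def Ker0 (Y Q A : Subgroup G) : Prop :=
  ∀ N₁ : Subgroup G, N₁ ≤ A → Y ≤ normalizer (N₁ : Set G) → ∀ v ∈ A,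
    (∀ g ∈ Y, g ∈ normalizer (Q : Set G) → ⁅g, v⁆ ∈ N₁) → ∀ y ∈ Y, ⁅y, v⁆ ∈ N₁

theorem ker0 {A : Subgroup G} (d : Dat π (Q.subgroupOf Y) (D.subgroupOf Y)) (QY : Q ≤ Y)
    (nA : Y ≤ normalizer (A : Set G)) (cm : ∀ a ∈ A, ∀ b ∈ A, a * b = b * a) (sq : ∀ a ∈ A, a * a = 1)
    (qd : ∀ q ∈ Q, ∀ q' ∈ Q, ∀ x ∈ A, ⁅q, ⁅q', x⁆⁆ = 1) : Ker0 Y Q A := by
  intro N₁ hle hN v hv hvN
  refine sect d QY ⟨hle, nA, hN, fun a ha b hb => ?_, fun a ha => ?_⟩ (fun q hq q' hq' x hx => ?_) hv hvN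
  · rw [commutatorElement_eq_one_iff_mul_comm.2 (cm a ha b hb)]; exact N₁.one_mem
  · rw [sq a ha]; exact N₁.one_mem
  · rw [qd q hq q' hq' x hx]; exact N₁.one_mem

/-- the same for a section `A/A'` -/
theorem ker0_sec {A A' : Subgroup G} (d : Dat π (Q.subgroupOf Y) (D.subgroupOf Y)) (QY : Q ≤ Y) (h : Sec Y A A')
    (qd : ∀ q ∈ Q, ∀ q' ∈ Q, ∀ x ∈ A, ⁅q, ⁅q', x⁆⁆ ∈ A') :
    ∀ N₁ : Subgroup G, A' ≤ N₁ → N₁ ≤ A → Y ≤ normalizer (N₁ : Set G) → ∀ v ∈ A,
    (∀ g ∈ Y, g ∈ normalizer (Q : Set G) → ⁅g, v⁆ ∈ N₁) → ∀ y ∈ Y, ⁅y, v⁆ ∈ N₁ := by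
  intro N₁ hA' hle hN v hv hvN
  exact sect d QY ⟨hle, h.nX, hN, fun a ha b hb => hA' (h.cm a ha b hb), fun a ha => hA' (h.sq a ha)⟩
    (fun q hq q' hq' x hx => hA' (qd q hq q' hq' x hx)) hv hvN

end sect

end Cfsg.Agent.Omega.NO3S.WY.OddKer

end
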