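import Cfsg.Agent.Mrg.Omega.NO3S.RedC.MaxMin


/-!
# (TOR) for one block `S₅` (helper499 #25327 (2)-(5)), abstract

`N` elementary abelian, `R ≤ N_G(N)` generated by `R0 ≤ N(Q)` and groups `K i`; `Q ≤ S ≤ R`, `L ≤ N` centralised by
`Q`, `N = ⟨L^R⟩`; `K i` normalises `C_Q(W i)`, `Q` acts on `W i` as a root group, `c i ≤ [W i, Q] ≤ l i` (`l i` the line of `W i` centralised by `Q`).

* `Five.le_Q` : a maximal offender of least rank in `S` lies in `Q`;
* `Five.cent_W` : it centralises all `W i`;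
* **`Five.false_of`**.
-/

set_option autoImplicit false
set_option linter.unusedSectionVars false

namespace Cfsg.Agent.Omega.NO3S.WY.TorFive

open Subgroup Cfsg Cfsg.Agent.ZN Cfsg.Agent.ZN.ChoiceBase
open Cfsg.Agent.Omega.FFThm (OffM ElemM NoOverM)
open Cfsg.Agent.Omega.NO3S.RedC (MaxMin exists_maxMin)
open Cfsg.Agent.Omega.NO3b.EZero (cent_symm)
open Cfsg.Agent.Omega.SQ1.Bau (mem_sup_comm card_sup_comm)
open Cfsg.Agent.Omega.NO3S.Fld (relIndex_mul_card)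
open Cfsg.Agent.Omega.NOThreeL.VF (elemM_mono)

universe u v

variable {G : Type u} [Group G] [Finite G]

/-- `[E, U] ≤ Z` -/
def CIn (E U Z : Subgroup G) : Prop := ∀ e ∈ E, ∀ u ∈ U, e * u * e⁻¹ * u⁻¹ ∈ Z

/-- The situation. -/
structure Five (R S Q L N R0 : Subgroup G) {ι : Type v} (W K c l E : ι → Subgroup G) : Prop where
  Nc : N ≤ centralizer (N : Set G)
  Ns : ∀ n ∈ N, n ^ 2 = 1
  RN : R ≤ normalizer (N : Set G)
  SR : S ≤ R
  syl : ∀ X ≤ R, IsPGroup 2 X → ∃ g ∈ R, cj g X ≤ S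
  QS : Q ≤ S
  SQL : S ⊓ centralizer (L : Set G) ≤ Q
  LN : L ≤ N
  QL : Q ≤ centralizer (L : Set G)
  R0R : R0 ≤ R
  R0Q : R0 ≤ normalizer (Q : Set G)
  KR : ∀ i, K i ≤ R
  gen : R ≤ R0 ⊔ ⨆ i, K i
  Ngen : ∀ X : Subgroup G, L ≤ X → R ≤ normalizer (X : Set G) → N ≤ X
  WN : ∀ i, W i ≤ N
  KPI : ∀ i, K i ≤ normalizer ((Q ⊓ centralizer (W i : Set G) : Subgroup G) : Set G)
  QPI : ∀ i, Q ≤ normalizer ((Q ⊓ centralizer (W i : Set G) : Subgroup G) : Set G)
  off : ∃ A ≤ R, OffM N A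
  noL : ∀ A ≤ S, ElemM L A → ¬ A ≤ centralizer (L : Set G) →
    Nat.card A * Nat.card ↥(L ⊓ centralizer (A : Set G)) ≤ Nat.card L * Nat.card ↥(A ⊓ centralizer (L : Set G))
  actL : ∀ A ≤ S, OffM L A → ∃ a ∈ A, ∃ i,
    (centralizer ({a} : Set G)).relIndex L < (centralizer ({a} : Set G)).relIndex (W i)
  noW : ∀ i, ∀ A ≤ Q, ElemM (W i) A → ¬ A ≤ centralizer (W i : Set G) →
    Nat.card A * Nat.card ↥(W i ⊓ centralizer (A : Set G)) ≤
      Nat.card (W i) * Nat.card ↥(A ⊓ centralizer (W i : Set G))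
  lineW : ∀ i, ∀ A ≤ Q, OffM (W i) A → CIn A (W i) (l i) ∧ ∀ Z' : Subgroup G, CIn A (W i) Z' → c i ≤ Z'
  sep : ∀ i, ∃ j, ¬ c i ≤ l j ∧ ∀ g ∈ K j ⊔ Q, cj g (c i) ≤ l i → g ∈ normalizer (l j : Set G)
  EQ : ∀ j, E j ≤ Q
  quad : ∀ j, ∀ t ∈ E j, ∀ n ∈ N, t * n * t⁻¹ * n⁻¹ ∈ centralizer (E j : Set G)
  reg : ∀ j, ∃ y ∈ K j ⊔ Q, ∃ t ∈ E j, ∃ t' ∈ E j, t ∉ normalizer (cj y (l j) : Set G) ∧
    t' ∉ normalizer (cj y (l j) : Set G) ∧ t * t' ∉ normalizer (cj y (l j) : Set G)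

/-- **hereditary** : `N = X C_N(A)` -/
theorem her {R N X A : Subgroup G} (hNc : N ≤ centralizer (N : Set G)) (hRN : R ≤ normalizer (N : Set G))
    (m : MaxMin N R A) (hX : X ≤ N)
    (hno : Nat.card A * Nat.card ↥(X ⊓ centralizer (A : Set G)) ≤ Nat.card X * Nat.card ↥(A ⊓ centralizer (X : Set G)))
    (hne : ¬ A ≤ centralizer (X : Set G)) :
    OffM X A ∧ X ⊔ (N ⊓ centralizer (A : Set G)) = N := by
  have hEX : ElemM X A := ⟨fun a ha => centralizer_le hX (m.elem.sq a ha),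
    fun a ha b hb => centralizer_le hX (m.elem.comm a ha b hb)⟩
  obtain ⟨no, mo⟩ := m.minOff hRN hX hno hne
  have hcut := mo.cut hX hno hne
  have i0 : (centralizer (N : Set G)).relIndex A = (centralizer (A : Set G)).relIndex N :=
    le_antisymm (FFThm.relIndex_le_iff.1 (no A m.le m.elem)) (m.off hNc le_rfl)
  have i1 : (centralizer (X : Set G)).relIndex A ≤ (centralizer (A : Set G)).relIndex X :=
    FFThm.relIndex_le_iff.1 hno
  have e1 : (centralizer (X : Set G)).relIndex A = (centralizer (N : Set G)).relIndex A := by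
    rw [← inf_relIndex_right, ← inf_relIndex_right (centralizer (N : Set G))]
    congr 1
    refine le_antisymm (le_inf ?_ inf_le_right) (inf_le_inf_right _ (centralizer_le hX))
    rw [inf_comm]
    exact hcut
  have i2 : (centralizer (A : Set G)).relIndex N ≤ (centralizer (A : Set G)).relIndex X := by
    rw [← i0, ← e1]
    exact i1
  refine ⟨⟨hEX, hne, FFThm.relIndex_le_iff.2 (m.off hNc hX)⟩, ?_⟩
  set K := N ⊓ centralizer (A : Set G) with hK
  have hcom' : ∀ x ∈ X, ∀ y ∈ K, x * y = y * x := fun x hx y hy => mem_centralizer_iff.1 (hNc hy.1) x (hX hx)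
  have e2 : X ⊓ K = X ⊓ centralizer (A : Set G) := by
    rw [hK, ← inf_assoc, inf_eq_left.2 hX]
  have c1 := card_sup_comm hcom'
  rw [e2] at c1
  have c2 := relIndex_mul_card X (centralizer (A : Set G))
  have c3 := relIndex_mul_card N (centralizer (A : Set G))
  refine Subgroup.eq_of_le_of_card_ge (sup_le hX inf_le_left) ?_
  have p1 : 0 < Nat.card ↥(X ⊓ centralizer (A : Set G)) := Nat.card_pos
  refine Nat.le_of_mul_le_mul_right (c := Nat.card ↥(X ⊓ centralizer (A : Set G))) ?_ p1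
  calc Nat.card N * Nat.card ↥(X ⊓ centralizer (A : Set G))
      = (centralizer (A : Set G)).relIndex N * (Nat.card K * Nat.card ↥(X ⊓ centralizer (A : Set G))) := by
        rw [← c3, ← hK]; ring
    _ ≤ (centralizer (A : Set G)).relIndex X * (Nat.card K * Nat.card ↥(X ⊓ centralizer (A : Set G))) :=
        Nat.mul_le_mul_right _ i2
    _ = Nat.card X * Nat.card K := by rw [← c2]; ring
    _ = _ := c1.symm

/-- `N = X C_N(A)` ⟹ `[N, A] = [X, A]` -/
theorem cin_of {N X A Z : Subgroup G} (hNc : N ≤ centralizer (N : Set G)) (hX : X ≤ N)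
    (hs : X ⊔ (N ⊓ centralizer (A : Set G)) = N) (h : CIn A X Z) : CIn A N Z := by
  intro e he u hu
  have hcom' : ∀ x ∈ X, ∀ y ∈ N ⊓ centralizer (A : Set G), x * y = y * x := fun x hx y hy =>
    mem_centralizer_iff.1 (hNc hy.1) x (hX hx)
  obtain ⟨n, hn, y, hy, rfl⟩ := mem_sup_comm hcom' (hs.symm ▸ hu : u ∈ X ⊔ (N ⊓ centralizer (A : Set G)))
  have h2 := mem_centralizer_iff.1 hy.2 e he
  have e1 : e * (n * y) * e⁻¹ * (n * y)⁻¹ = e * n * (y * e⁻¹ * y⁻¹) * n⁻¹ := by group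
  have e2 : y * e⁻¹ * y⁻¹ = e⁻¹ := by
    have h3 := mem_centralizer_iff.1 hy.2 e⁻¹ (inv_mem he)
    rw [← h3]
    group
  rw [e1, e2]
  exact h e he n hn

theorem CIn.cj {E U Z : Subgroup G} (h : CIn E U Z) {g : G} (hg : g ∈ normalizer (U : Set G)) :
    CIn (cj g E) U (cj g Z) := by
  rintro _ ⟨e, he, rfl⟩ u hu
  have h1 : g⁻¹ * u * g ∈ U := by
    have h2 : g⁻¹ ∈ normalizer (U : Set G) := inv_mem hg
    have h3 := (mem_normalizer_iff.1 h2 u).1 hu
    rwa [inv_inv] at h3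
  refine ⟨_, h e he _ h1, ?_⟩
  show g * (e * (g⁻¹ * u * g) * e⁻¹ * (g⁻¹ * u * g)⁻¹) * g⁻¹ = (g * e * g⁻¹) * u * (g * e * g⁻¹)⁻¹ * u⁻¹
  group

namespace Five

variable {R S Q L N R0 : Subgroup G} {ι : Type v} {W K c l E : ι → Subgroup G} (s : Five R S Q L N R0 W K c l E)
include s

theorem le_Q {A : Subgroup G} (m : MaxMin N R A) (hA : A ≤ S) : A ≤ Q := by
  by_contra hAQ
  have hne : ¬ A ≤ centralizer (L : Set G) := fun h => hAQ ((le_inf hA h).trans s.SQL)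
  have hEL : ElemM L A := ⟨fun a ha => centralizer_le s.LN (m.elem.sq a ha),
    fun a ha b hb => centralizer_le s.LN (m.elem.comm a ha b hb)⟩
  obtain ⟨hoff, hs⟩ := her s.Nc s.RN m s.LN (s.noL A hA hEL hne) hne
  obtain ⟨a, ha, i, hlt⟩ := s.actL A hA hoff
  have hle : (centralizer ({a} : Set G)).relIndex (W i) ≤ (centralizer ({a} : Set G)).relIndex N :=
    relIndex_le_of_le_right (s.WN i) index_ne_zero_of_finite
  have hsa : L ⊔ (N ⊓ centralizer ({a} : Set G)) = N := by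
    refine le_antisymm (sup_le s.LN inf_le_left) ?_
    conv_lhs => rw [← hs]
    exact sup_le_sup_left (inf_le_inf_left _ (centralizer_le (Set.singleton_subset_iff.2 ha))) _
  set D := N ⊓ centralizer ({a} : Set G) with hD
  have hcom' : ∀ x ∈ L, ∀ y ∈ D, x * y = y * x := fun x hx y hy => mem_centralizer_iff.1 (s.Nc hy.1) x (s.LN hx)
  have e2 : L ⊓ D = L ⊓ centralizer ({a} : Set G) := by
    rw [hD, ← inf_assoc, inf_eq_left.2 s.LN]
  have c1 := card_sup_comm hcom'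
  rw [e2, hsa] at c1
  have c2 := relIndex_mul_card L (centralizer ({a} : Set G))
  have c3 := relIndex_mul_card N (centralizer ({a} : Set G))
  rw [← hD] at c3
  have p1 : 0 < Nat.card ↥(L ⊓ centralizer ({a} : Set G)) := Nat.card_pos
  have p2 : 0 < Nat.card D := Nat.card_pos
  have h5 : (centralizer ({a} : Set G)).relIndex N = (centralizer ({a} : Set G)).relIndex L := by
    refine Nat.eq_of_mul_eq_mul_right (Nat.mul_pos p2 p1) ?_
    calc (centralizer ({a} : Set G)).relIndex N * (Nat.card D * Nat.card ↥(L ⊓ centralizer ({a} : Set G)))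
        = Nat.card N * Nat.card ↥(L ⊓ centralizer ({a} : Set G)) := by rw [← c3]; ring
      _ = Nat.card L * Nat.card D := c1
      _ = _ := by rw [← c2]; ring
  omega

/-- `A ≤ Q` moves `W i` ⟹ `c i ≤ [N, A] ≤ l i` -/
theorem act {A : Subgroup G} (m : MaxMin N R A) (hA : A ≤ Q) {i : ι} (hne : ¬ A ≤ centralizer (W i : Set G)) :
    CIn A N (l i) ∧ ∀ Z' : Subgroup G, CIn A N Z' → c i ≤ Z' := by
  have hEL : ElemM (W i) A := ⟨fun a ha => centralizer_le (s.WN i) (m.elem.sq a ha),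
    fun a ha b hb => centralizer_le (s.WN i) (m.elem.comm a ha b hb)⟩
  obtain ⟨hoff, hs⟩ := her s.Nc s.RN m (s.WN i) (s.noW i A hA hEL hne) hne
  obtain ⟨h1, h2⟩ := s.lineW i A hA hoff
  exact ⟨cin_of s.Nc (s.WN i) hs h1, fun Z' hZ' => h2 Z' fun e he u hu => hZ' e he u (s.WN i hu)⟩

theorem QR : Q ≤ R := s.QS.trans s.SR

theorem KQR (j : ι) : K j ⊔ Q ≤ R := sup_le (s.KR j) s.QR

/-- `A^g ≤ Q` for `A ≤ C_Q(W j)`, `g ∈ K j Q` -/
theorem cj_le {j : ι} {A : Subgroup G} (hA : A ≤ Q) (hAW : A ≤ centralizer (W j : Set G)) {g : G}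
    (hg : g ∈ K j ⊔ Q) : cj g A ≤ Q := by
  have h1 : K j ⊔ Q ≤ normalizer ((Q ⊓ centralizer (W j : Set G) : Subgroup G) : Set G) := sup_le (s.KPI j) (s.QPI j)
  have h2 := cj_mono g (le_inf hA hAW)
  rw [cj_eq_of_mem_normalizer (h1 hg)] at h2
  exact h2.trans inf_le_left

theorem cent_W {A : Subgroup G} (m : MaxMin N R A) (hAQ : A ≤ Q) (i : ι) : A ≤ centralizer (W i : Set G) := by
  by_contra hne
  obtain ⟨hin, hmin⟩ := s.act m hAQ hne
  obtain ⟨j, hij, hsep⟩ := s.sep i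
  have hAj : A ≤ centralizer (W j : Set G) := by
    by_contra hj
    obtain ⟨hin', hmin'⟩ := s.act m hAQ hj
    exact hij (hmin _ hin')
  -- `A^g` centralises `W i` if `g` moves the line `l j`
  have key : ∀ g ∈ K j ⊔ Q, g ∉ normalizer (l j : Set G) → cj g A ≤ centralizer (W i : Set G) := by
    intro g hg hgn
    by_contra hcon
    have hgR := s.KQR j hg
    obtain ⟨hin', -⟩ := s.act (m.cj hgR s.RN) (s.cj_le hAQ hAj hg) hcon
    have h1 := hin'.cj (g := g⁻¹) (inv_mem (s.RN hgR))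
    rw [cj_inv_cj] at h1
    have h2 := cj_mono g (hmin _ h1)
    rw [cj_cj_inv] at h2
    exact hgn (hsep g hg h2)
  obtain ⟨y, hy, t, ht, t', ht', n1, n2, n3⟩ := s.reg j
  have hEK : ∀ t ∈ E j, t ∈ K j ⊔ Q := fun t ht => (le_sup_right : Q ≤ K j ⊔ Q) (s.EQ j ht)
  -- `cj y A` centralises `cj (t y) (W i)` for `t` moving the line `cj y (l j)`
  have key2 : ∀ t ∈ K j ⊔ Q, t ∉ normalizer (cj y (l j) : Set G) → ∀ w ∈ W i, ∀ a ∈ A,
      (y * a * y⁻¹) * (t * (y * w * y⁻¹) * t⁻¹) = (t * (y * w * y⁻¹) * t⁻¹) * (y * a * y⁻¹) := by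
    intro t ht hn w hw a ha
    have hg : y⁻¹ * t⁻¹ * y ∈ K j ⊔ Q := mul_mem (mul_mem (inv_mem hy) (inv_mem ht)) hy
    have hgn : y⁻¹ * t⁻¹ * y ∉ normalizer (l j : Set G) := by
      intro h
      apply hn
      rw [mem_normalizer_iff_cj] at h ⊢
      have h1 : cj (y⁻¹ * t⁻¹ * y) (l j) = cj y⁻¹ (cj t⁻¹ (cj y (l j))) := by rw [cj_cj, cj_cj, mul_assoc]
      rw [h1] at h
      have h2 := congrArg (fun X => cj t (cj y X)) h
      simp only [cj_cj_inv] at h2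
      exact h2.symm
    have h3 := key _ hg hgn
    have h4 := mem_centralizer_iff.1 (h3 ⟨a, ha, rfl⟩) w hw
    have h5 : w * ((y⁻¹ * t⁻¹ * y) * a * (y⁻¹ * t⁻¹ * y)⁻¹) = ((y⁻¹ * t⁻¹ * y) * a * (y⁻¹ * t⁻¹ * y)⁻¹) * w := h4
    have h6 := congrArg (fun x => t * y * x * (t * y)⁻¹) h5
    have e1 : (y * a * y⁻¹) * (t * (y * w * y⁻¹) * t⁻¹) =
        t * y * (((y⁻¹ * t⁻¹ * y) * a * (y⁻¹ * t⁻¹ * y)⁻¹) * w) * (t * y)⁻¹ := by group
    have e2 : (t * (y * w * y⁻¹) * t⁻¹) * (y * a * y⁻¹) =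
        t * y * (w * ((y⁻¹ * t⁻¹ * y) * a * (y⁻¹ * t⁻¹ * y)⁻¹)) * (t * y)⁻¹ := by group
    rw [e1, e2]
    exact h6.symm
  apply hne
  intro a ha
  refine mem_centralizer_iff.2 fun w hw => ?_
  -- the four commuting conjugates
  have hyR := s.KQR j hy
  set n := y * w * y⁻¹ with hn
  have hnN : n ∈ N := by
    have := (mem_normalizer_iff.1 (s.RN hyR) w).1 (s.WN i hw)
    exact this
  have k1 := key2 t (hEK t ht) n1 w hw a ha
  have k2 := key2 t' (hEK t' ht') n2 w hw a ha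
  have k3 := key2 (t * t') (mul_mem (hEK t ht) (hEK t' ht')) n3 w hw a ha
  rw [← hn] at k1 k2 k3
  -- quadratic
  have hcN : ∀ r ∈ K j ⊔ Q, ∀ x ∈ N, r * x * r⁻¹ ∈ N := fun r hr x hx =>
    (mem_normalizer_iff.1 (s.RN (s.KQR j hr)) x).1 hx
  have hq := s.quad j t' ht' n hnN
  have hq1 := mem_centralizer_iff.1 hq t ht
  -- `t [t', n] = [t', n] t`, so `n = n^t n^{t'} n^{t t'}`
  have hcomm : ∀ x ∈ N, ∀ z ∈ N, x * z = z * x := fun x hx z hz => mem_centralizer_iff.1 (s.Nc hz) x hx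
  have m1 := hcN t (hEK t ht) n hnN
  have m2 := hcN t' (hEK t' ht') n hnN
  have m3 := hcN (t * t') (mul_mem (hEK t ht) (hEK t' ht')) n hnN
  have hfour : n = (t * t') * n * (t * t')⁻¹ * (t' * n * t'⁻¹)⁻¹ * (t * n * t⁻¹) := by
    have e1 : t * (t' * n * t'⁻¹ * n⁻¹) * t⁻¹ = t' * n * t'⁻¹ * n⁻¹ := by
      rw [hq1, mul_inv_cancel_right]
    have e2 : t * (t' * n * t'⁻¹ * n⁻¹) * t⁻¹ = (t * t') * n * (t * t')⁻¹ * (t * n * t⁻¹)⁻¹ := by group
    rw [e2] at e1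
    -- `m3 m1⁻¹ = m2 n⁻¹`
    have h1 : (t * t') * n * (t * t')⁻¹ * n = (t' * n * t'⁻¹) * (t * n * t⁻¹) := by
      have h2 : (t * t') * n * (t * t')⁻¹ = (t' * n * t'⁻¹) * n⁻¹ * (t * n * t⁻¹) := by
        rw [← e1, inv_mul_cancel_right]
      rw [h2, mul_assoc, hcomm _ m1 _ hnN, ← mul_assoc, inv_mul_cancel_right]
    have h3 : n⁻¹ = n := by
      have := s.Ns n hnN
      rw [pow_two] at this
      exact inv_eq_of_mul_eq_one_left this
    have h4 : (t' * n * t'⁻¹)⁻¹ = t' * n * t'⁻¹ := by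
      have := s.Ns _ m2
      rw [pow_two] at this
      exact inv_eq_of_mul_eq_one_left this
    have h5 : (t * n * t⁻¹) * (t * n * t⁻¹) = 1 := by
      have := s.Ns _ m1
      rwa [pow_two] at this
    have h6 : (t' * n * t'⁻¹) * (t' * n * t'⁻¹) = 1 := by
      have := s.Ns _ m2
      rwa [pow_two] at this
    have h7 : (t * t') * n * (t * t')⁻¹ * ((t * t') * n * (t * t')⁻¹) = 1 := by
      have := s.Ns _ m3
      rwa [pow_two] at this
    -- `n = m3 (m2 m1)`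
    calc n = (t * t') * n * (t * t')⁻¹ * ((t * t') * n * (t * t')⁻¹) * n := by rw [h7, one_mul]
      _ = (t * t') * n * (t * t')⁻¹ * ((t * t') * n * (t * t')⁻¹ * n) := by rw [mul_assoc]
      _ = (t * t') * n * (t * t')⁻¹ * ((t' * n * t'⁻¹) * (t * n * t⁻¹)) := by rw [h1]
      _ = _ := by rw [h4, ← mul_assoc (t * t' * n * (t * t')⁻¹)]
  -- `a^y` commutes with `n`
  have hcn : (y * a * y⁻¹) * n = n * (y * a * y⁻¹) := by
    have c1 : (y * a * y⁻¹) ∈ centralizer ({t * n * t⁻¹, t' * n * t'⁻¹, (t * t') * n * (t * t')⁻¹} : Set G) := by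
      rw [mem_centralizer_iff]
      intro x hx
      rcases hx with rfl | rfl | hx
      · exact k1.symm
      · exact k2.symm
      · rw [Set.mem_singleton_iff.1 hx]
        exact k3.symm
    have c2 : n ∈ centralizer ({y * a * y⁻¹} : Set G) := by
      rw [hfour]
      have d : ∀ x : G, (y * a * y⁻¹) * x = x * (y * a * y⁻¹) → x ∈ centralizer ({y * a * y⁻¹} : Set G) := by
        intro x hx
        rw [mem_centralizer_iff]
        intro z hz
        rw [Set.mem_singleton_iff.1 hz]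
        exact hx
      exact mul_mem (mul_mem (d _ k3) (inv_mem (d _ k2))) (d _ k1)
    exact mem_centralizer_iff.1 c2 _ (Set.mem_singleton _)
  rw [hn] at hcn
  have h8 := congrArg (fun x => y⁻¹ * x * y) hcn
  have e1 : y⁻¹ * (y * a * y⁻¹ * (y * w * y⁻¹)) * y = a * w := by group
  have e2 : y⁻¹ * (y * w * y⁻¹ * (y * a * y⁻¹)) * y = w * a := by group
  simp only [e1, e2] at h8
  exact h8.symm

/-- **(TOR) for one block `S₅`** -/
theorem false_of : False := by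
  classical
  obtain ⟨A₀, m₀⟩ := exists_maxMin s.RN s.off
  obtain ⟨g₀, hg₀, hA₀⟩ := s.syl A₀ m₀.le m₀.pg
  have m₁ := m₀.cj hg₀ s.RN
  -- the members in `S` are permuted by `R`
  let 𝓔 : Set (Subgroup G) := {A | MaxMin N R A ∧ A ≤ S}
  have hinv : ∀ g ∈ R, ∀ A ∈ 𝓔, cj g A ∈ 𝓔 := by
    let D : Subgroup G :=
      { carrier := {g | g ∈ R ∧ ∀ A ∈ 𝓔, cj g A ∈ 𝓔 ∧ cj g⁻¹ A ∈ 𝓔}
        one_mem' := ⟨one_mem _, fun A hA => by rw [inv_one, cj_one]; exact ⟨hA, hA⟩⟩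
        mul_mem' := fun {a b} ha hb => ⟨mul_mem ha.1 hb.1, fun A hA => by
          rw [mul_inv_rev, ← cj_cj, ← cj_cj]
          exact ⟨(ha.2 _ (hb.2 A hA).1).1, (hb.2 _ (ha.2 A hA).2).2⟩⟩
        inv_mem' := fun {a} ha => ⟨inv_mem ha.1, fun A hA => by
          rw [inv_inv]
          exact ⟨(ha.2 A hA).2, (ha.2 A hA).1⟩⟩ }
    have hRD : R ≤ D := by
      refine s.gen.trans (sup_le (fun g hg => ?_) (iSup_le fun i g hg => ?_))
      · refine ⟨s.R0R hg, fun A hA => ?_⟩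
        have hAQ := s.le_Q hA.1 hA.2
        have h1 := cj_mono g hAQ
        rw [cj_eq_of_mem_normalizer (s.R0Q hg)] at h1
        have h2 := cj_mono g⁻¹ hAQ
        rw [cj_eq_of_mem_normalizer (inv_mem (s.R0Q hg))] at h2
        exact ⟨⟨hA.1.cj (s.R0R hg) s.RN, h1.trans s.QS⟩, ⟨hA.1.cj (inv_mem (s.R0R hg)) s.RN, h2.trans s.QS⟩⟩
      · refine ⟨s.KR i hg, fun A hA => ?_⟩
        have hAQ := s.le_Q hA.1 hA.2
        have hAW := s.cent_W hA.1 hAQ i
        exact ⟨⟨hA.1.cj (s.KR i hg) s.RN, (s.cj_le hAQ hAW (le_sup_left (a := K i) hg)).trans s.QS⟩,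
          ⟨hA.1.cj (inv_mem (s.KR i hg)) s.RN, (s.cj_le hAQ hAW (le_sup_left (a := K i) (inv_mem hg))).trans s.QS⟩⟩
    exact fun g hg A hA => ((hRD hg).2 A hA).1
  let X : Subgroup G := sSup 𝓔
  have hX : R ≤ normalizer (X : Set G) := by
    intro g hg
    rw [mem_normalizer_iff_cj]
    have h1 : ∀ g ∈ R, cj g X ≤ X := by
      intro g hg
      have h2 : X ≤ cj g⁻¹ X := by
        refine sSup_le fun A hA => ?_
        have h3 := cj_mono g⁻¹ (le_sSup (hinv g hg A hA) : cj g A ≤ X)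
        rwa [cj_inv_cj] at h3
      have h4 := cj_mono g h2
      rwa [cj_cj_inv] at h4
    refine le_antisymm (h1 g hg) ?_
    have h2 := cj_mono g (h1 g⁻¹ (inv_mem hg))
    rwa [cj_cj_inv] at h2
  have hXL : X ≤ centralizer (L : Set G) := sSup_le fun A hA => (s.le_Q hA.1 hA.2).trans s.QL
  have h1 : N ≤ centralizer (X : Set G) := s.Ngen _ (cent_symm hXL) (by
    intro g hg
    rw [mem_normalizer_iff_cj, cj_centralizer, cj_eq_of_mem_normalizer (hX hg)])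
  have h2 : cj g₀ A₀ ≤ X := le_sSup ⟨m₁, hA₀⟩
  exact m₁.ne (h2.trans (cent_symm h1))

end Five

end Cfsg.Agent.Omega.NO3S.WY.TorFive
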